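import Cfsg.Agent.H56.Exc.BigRows

/-!
# The isolated tori of class `8` in `E₆(q)`, `²E₆(q)` are big

`big_E6_8`, `big_TE6_8` : `Big G r ((q⁴ + 1)(q² - 1)) 8`.
-/

set_option autoImplicit false
set_option linter.unusedSectionVars false
set_option linter.unusedSimpArgs false

namespace Cfsg.Agent.H190.Odd

open Cfsg.Agent Cfsg.Lie Cfsg.Agent.H56.Exc

universe u

/-- the arithmetic of the automizer: `3a ≡ 8` modulo `r` is impossible for `a ∣ r - 1`, `8 ∣ r - 1` -/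
theorem no_three {r a : ℕ} (hr : 8 < r) (h8 : 8 ∣ r - 1) (ha : a ∣ r - 1) (h : (3 : ZMod r) * a = 8) : False := by
  have h1 : ((3 * a : ℕ) : ZMod r) = ((8 : ℕ) : ZMod r) := by push_cast; exact h
  rw [ZMod.natCast_eq_natCast_iff] at h1
  obtain ⟨b, hb⟩ := ha
  have ha0 : a ≤ r - 1 := Nat.le_of_dvd (by omega) ⟨b, hb⟩
  obtain ⟨c, hc⟩ := h8
  have h2 : 3 * a % r = 8 := by
    rw [h1, Nat.mod_eq_of_lt hr]
  have h3 := Nat.div_add_mod (3 * a) r
  rw [h2] at h3
  have hj3 : 3 * a / r < 3 := (Nat.div_lt_iff_lt_mul (lt_trans (by norm_num) hr)).2 (by omega)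
  generalize 3 * a / r = j at h3 hj3
  have h4 : 3 * (r - 1) = (3 * a) * b := by rw [hb]; ring
  rw [← h3] at h4
  have hj012 : j = 0 ∨ j = 1 ∨ j = 2 := by omega
  rcases hj012 with h0 | h0 | h0
  · rw [h0] at h3; omega
  · rw [h0] at h4
    have hb3 : b < 3 := by
      by_contra hcon
      have : (r * 1 + 8) * 3 ≤ (r * 1 + 8) * b := Nat.mul_le_mul_left _ (by omega)
      omega
    interval_cases b <;> omega
  · rw [h0] at h4
    have hb3 : b < 2 := by
      by_contra hcon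
      have : (r * 2 + 8) * 2 ≤ (r * 2 + 8) * b := Nat.mul_le_mul_left _ (by omega)
      omega
    interval_cases b <;> omega

/-- **The numerics of the automizer, class `8`.** -/
theorem row_eight {G : Type*} [Group G] [Finite G] {r m D : ℕ} {K : ℤ} (hr : r.Prime) (h : CycCard G r m D)
    (hD : D = 3 ∨ D = 1) (h8 : 8 ∣ r - 1)
    (hG : (D : ℤ) * Nat.card G = m * K) (hK : (K : ZMod r) = 8) : Big G r m 8 := by
  have hfact : Fact r.Prime := ⟨hr⟩
  have hr2 := hr.two_le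
  have h9 : 8 < r := by
    have := Nat.le_of_dvd (by omega) h8
    omega
  refine Big.of_cyc hr h ?_ (fun h1 => absurd (Nat.le_of_dvd (by norm_num) h1) (not_le.2 h9))
  intro t c a htm hmt hc ha hca
  have ha0 : 0 < r - 1 := by omega
  have har : a < r := lt_of_le_of_lt (Nat.le_of_dvd ha0 ha) (by omega)
  have hD0 : 0 < D := by rcases hD with h1 | h1 <;> omega
  have ht0 : 0 < t := Nat.pos_of_ne_zero (by
    rintro rfl
    rw [zero_mul] at hc
    exact absurd hc Nat.card_pos.ne')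
  obtain ⟨s, rfl⟩ := htm
  have hsD : s ∣ D := Nat.dvd_of_mul_dvd_mul_left ht0 (by rw [mul_comm t D]; exact hmt)
  have hcK : (D : ℤ) * c = s * K := by
    have h1 : (D : ℤ) * (t * c) = (t * s) * K := by
      rw [hc] at hG; push_cast at hG; exact hG
    have ht : (t : ℤ) ≠ 0 := by exact_mod_cast ht0.ne'
    apply mul_left_cancel₀ ht
    linear_combination h1
  have hcz : (c : ZMod r) = a := (ZMod.natCast_eq_natCast_iff _ _ _).2 hca
  have hDs : (D : ZMod r) * a = s * 8 := by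
    have h1 := congrArg (Int.cast : ℤ → ZMod r) hcK
    push_cast at h1
    rw [hcz, hK] at h1
    exact h1
  have hDr : ¬ r ∣ D := fun h1 => by
    have := Nat.le_of_dvd hD0 h1
    rcases hD with h2 | h2 <;> omega
  have hsone : s = D ∨ s = 1 := by
    rcases hD with h1 | h1
    · subst h1
      exact ((Nat.dvd_prime Nat.prime_three).1 hsD).symm
    · rw [h1] at hsD; exact Or.inr (Nat.dvd_one.1 hsD)
  have hDz : (D : ZMod r) ≠ 0 := by rwa [Ne, ZMod.natCast_eq_zero_iff]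
  have height : ∀ h1 : (a : ZMod r) = 8, a ∣ 8 := by
    intro h1
    have h2 : ((a : ℕ) : ZMod r) = ((8 : ℕ) : ZMod r) := by push_cast; exact h1
    rw [ZMod.natCast_eq_natCast_iff, Nat.ModEq, Nat.mod_eq_of_lt har, Nat.mod_eq_of_lt h9] at h2
    exact h2.dvd
  rcases hsone with rfl | rfl
  · exact height (mul_left_cancel₀ hDz hDs)
  · rcases hD with rfl | rfl
    · exfalso
      push_cast at hDs
      rw [one_mul] at hDs
      exact no_three h9 h8 ha hDs
    · push_cast at hDs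
      rw [one_mul, one_mul] at hDs
      exact height hDs

section Kap

variable {R : Type*} [CommRing R] {x : R}

theorem kap_E6_8 (h : 1 + x ^ 4 = 0) :
    x ^ 36 * (x ^ 5 - 1) * (x ^ 6 - 1) * (x ^ 4 - 1) * (x ^ 9 - 1) * (x ^ 12 - 1) = 8 := by
  have h4 : x ^ 4 = -1 := by linear_combination h
  have f36 : x ^ 36 = -1 := by rw [show 36 = 4 * 9 by norm_num, pow_mul, h4]; norm_num
  have f5 : x ^ 5 = -x := by rw [show 5 = 4 + 1 by norm_num, pow_add, h4]; ring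
  have f6 : x ^ 6 = -x ^ 2 := by rw [show 6 = 4 + 2 by norm_num, pow_add, h4]; ring
  have f9 : x ^ 9 = x := by rw [show 9 = 4 * 2 + 1 by norm_num, pow_add, pow_mul, h4]; ring
  have f12 : x ^ 12 = -1 := by rw [show 12 = 4 * 3 by norm_num, pow_mul, h4]; norm_num
  rw [f36, f5, f6, h4, f9, f12]
  linear_combination (-4) * h4

theorem kap_TE6_8 (h : 1 + x ^ 4 = 0) :
    x ^ 36 * (x ^ 5 + 1) * (x ^ 6 - 1) * (x ^ 4 - 1) * (x ^ 9 + 1) * (x ^ 12 - 1) = 8 := by
  have h4 : x ^ 4 = -1 := by linear_combination h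
  have f36 : x ^ 36 = -1 := by rw [show 36 = 4 * 9 by norm_num, pow_mul, h4]; norm_num
  have f5 : x ^ 5 = -x := by rw [show 5 = 4 + 1 by norm_num, pow_add, h4]; ring
  have f6 : x ^ 6 = -x ^ 2 := by rw [show 6 = 4 + 2 by norm_num, pow_add, h4]; ring
  have f9 : x ^ 9 = x := by rw [show 9 = 4 * 2 + 1 by norm_num, pow_add, pow_mul, h4]; ring
  have f12 : x ^ 12 = -1 := by rw [show 12 = 4 * 3 by norm_num, pow_mul, h4]; norm_num
  rw [f36, f5, f6, h4, f9, f12]
  linear_combination (-4) * h4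

end Kap

theorem gcd_three {n : ℕ} : Nat.gcd 3 n = 3 ∨ Nat.gcd 3 n = 1 :=
  ((Nat.dvd_prime Nat.prime_three).1 (Nat.gcd_dvd_left 3 n)).symm

variable {F : Type u} [Field F] [Fintype F] {q : ℕ}

theorem big_E6_8 (hq : Fintype.card F = q) {m r : ℕ}
    (hm : (m : ℤ) = (1 + (q : ℤ) ^ 4) * ((q : ℤ) ^ 2 - 1)) (hr : H436.Prim q 8 r) :
    Big ↥(chevE6.group F) r m 8 := by
  have hq2 : 2 ≤ q := by rw [← hq]; exact Fintype.one_lt_card
  have hlt := prim_lt hr (by norm_num)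
  have h8 : 8 ∣ r - 1 := by
    have := Fact.mk hr.prime
    have h1 : (q : ZMod r) ^ (r - 1) = 1 := ZMod.pow_card_sub_one_eq_one (by
      rw [Ne, ZMod.natCast_eq_zero_iff]; exact hr.not_dvd)
    exact (prim_pow hr _).1 h1
  refine row_eight (K := (q : ℤ) ^ 36 * ((q : ℤ) ^ 5 - 1) * ((q : ℤ) ^ 6 - 1) * ((q : ℤ) ^ 4 - 1) *
    ((q : ℤ) ^ 9 - 1) * ((q : ℤ) ^ 12 - 1)) hr.prime (Cfsg.Agent.H129.CycCard.card_E6_8 hq hm hr.prime
    (prim_dvd_8 hr) (by omega)) gcd_three h8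
    ?_ ?_
  · rw [ord_E6 hq, hm]; ring
  · push_cast
    exact kap_E6_8 (prim_phi_8 hr)

theorem big_TE6_8 (hq : IsPrimePow q) (hK : Fintype.card F = q ^ 2) {m r : ℕ}
    (hm : (m : ℤ) = (1 + (q : ℤ) ^ 4) * ((q : ℤ) ^ 2 - 1)) (hr : H436.Prim q 8 r) :
    Big ↥(twistedE6 F q) r m 8 := by
  have hq2 : 2 ≤ q := hq.two_le
  have hlt := prim_lt hr (by norm_num)
  have h8 : 8 ∣ r - 1 := by
    have := Fact.mk hr.prime
    have h1 : (q : ZMod r) ^ (r - 1) = 1 := ZMod.pow_card_sub_one_eq_one (by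
      rw [Ne, ZMod.natCast_eq_zero_iff]; exact hr.not_dvd)
    exact (prim_pow hr _).1 h1
  refine row_eight (K := (q : ℤ) ^ 36 * ((q : ℤ) ^ 5 + 1) * ((q : ℤ) ^ 6 - 1) * ((q : ℤ) ^ 4 - 1) *
    ((q : ℤ) ^ 9 + 1) * ((q : ℤ) ^ 12 - 1)) hr.prime (Cfsg.Agent.H129.CycCard.card_tE6_8 hq hK hm hr.prime
    (prim_dvd_8 hr) (by omega)) gcd_three h8 ?_ ?_
  · rw [ord_TE6 hq hK, hm]; ring
  · push_cast
    exact kap_TE6_8 (prim_phi_8 hr)

end Cfsg.Agent.H190.Odd
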