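import Cfsg.Agent.H563.KG.Core

/-!
# The simple normal subgroup, with killed primes (a variant of `H563.KG.Core`)

* `KillB G t` : `G` has no nontrivial normal elementary abelian `t`-subgroup;
* `red_kill`, `core_kill` : the theorems of `H563.KG` where for some primes `t` the condition `Good` is replaced by
  `KillB`.
-/

set_option autoImplicit false

namespace Cfsg.Agent.H190.Odd

open Cfsg Cfsg.Agent.OrdDiv Cfsg.Agent.H436 Cfsg.Agent.H902 Cfsg.Agent.H902.Names Cfsg.Agent.H915.GN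
  Cfsg.Agent.H290.ElReg Cfsg.Agent.H264.FKS Cfsg.Agent.H56.Exc Cfsg.Agent.H325.Loc Cfsg.Agent.H563.KG

universe u

/-- no nontrivial normal elementary abelian `t`-subgroups -/
def KillB (G : Type*) [Group G] (t : ℕ) : Prop :=
  ∀ A : Subgroup G, A.Normal → (∀ a ∈ A, ∀ b ∈ A, a * b = b * a) → (∀ a ∈ A, a ^ t = 1) → A = ⊥

theorem Good.kill {F : Type*} [Field F] {ι : Type*} [Fintype ι] [DecidableEq ι] {G : Type u}
    [Group G] [Finite G] {p : ℕ} [hp : Fact p.Prime] [CharP F p] {τ : G →* GL ι F} (hτ : Function.Injective τ) {n t : ℕ}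
    (h : Good G n t) (ht : t.Prime) (htp : t ≠ p) (hn : Fintype.card ι ≤ n) : KillB G t := by
  intro A hAn hAc hAt
  by_contra hA0
  have hPt : IsPGroup t A := fun a => ⟨1, by rw [pow_one]; exact Subtype.ext (hAt a a.2)⟩
  have := Fact.mk ht
  obtain ⟨k, hk⟩ := IsPGroup.iff_card.1 hPt
  have hk0 : k ≠ 0 := by
    rintro rfl
    rw [pow_zero, Subgroup.card_eq_one] at hk
    exact hA0 hk
  have h1 : ¬ p ∣ Nat.card A := by
    intro h
    rw [hk] at h
    exact htp ((Nat.prime_dvd_prime_iff_eq hp.out ht).1 (hp.out.dvd_of_dvd_pow h)).symm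
  obtain ⟨m, hmG, hfree, hlt | ⟨hmp, hmk⟩⟩ := h
  · exact hA0 (eq_bot_of_dvd hτ hAc h1 hmG (fun x hx hxm a ha hc => hfree x hx hxm a (hAt a ha) hc)
      (lt_of_le_of_lt hn hlt))
  · have := Fact.mk hmp
    obtain ⟨x, hx⟩ := exists_prime_orderOf_dvd_card' m hmG
    have h2 := dvd_card_sub_one (A := A) hmp hx fun a ha hc =>
      hfree x (by rw [hx]; exact hmp) (by rw [hx]) a (hAt a ha) hc
    rw [hk] at h2
    exact hmk k (Nat.pos_of_ne_zero hk0) (hk ▸ Subgroup.card_subgroup_dvd_card A) h2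

theorem red_kill (hE : CycFixSolv.{u}) {G : Type u} [Group G] [Finite G] {p : ℕ}
    {Pr : ℕ → Prop} (hcore : ∀ A : Subgroup G, A.Normal → IsPGroup p A → A = ⊥) {r : ℕ} (hr : Pr r) (hrp : r.Prime)
    (hrG : r ∣ Nat.card G) (hcyc : ∀ x : G, orderOf x = r → IsCyclic ↥(Subgroup.centralizer {x}))
    (hkill : ∀ t : ℕ, t.Prime → t ≠ p → ¬ Pr t → t ∣ Nat.card G → KillB G t) : Red G Pr := by
  intro N hN hNr
  by_contra hne
  have := Fact.mk hrp
  have hsolv : Group.IsSolvable N := by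
    obtain ⟨x, hx⟩ := exists_prime_orderOf_dvd_card' r hrG
    apply hE N (MulAut.conjNormal (H := N) x) r hrp _ (hNr r hr)
    · refine ⟨(Subgroup.centralizer {x}).comap N.subtype, ?_, fun a ha => ?_⟩
      · have := hcyc x hx
        let g : ↥((Subgroup.centralizer {x}).comap N.subtype) →* ↥(Subgroup.centralizer {x}) :=
          (N.subtype.comp ((Subgroup.centralizer {x}).comap N.subtype).subtype).codRestrict _ fun y => y.2
        exact isCyclic_of_injective g fun a b hab => by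
          have h3 : ((a : N) : G) = ((b : N) : G) :=
            congrArg (fun z : ↥(Subgroup.centralizer {x}) => (z : G)) hab
          exact Subtype.ext (Subtype.ext h3)
      · rw [Subgroup.mem_comap, Subgroup.mem_centralizer_singleton_iff]
        have h2 := congrArg Subtype.val ha
        rw [MulAut.conjNormal_apply, mul_inv_eq_iff_eq_mul] at h2
        exact h2.symm
    · rw [← map_pow, ← hx, pow_orderOf_eq_one, map_one]
  obtain ⟨t, ht, A, hAn, hAN, hA0, hAc, hAt⟩ := exists_elem' hN hsolv hne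
  have hPt : IsPGroup t A := fun a => ⟨1, by rw [pow_one]; exact Subtype.ext (hAt a a.2)⟩
  have := Fact.mk ht
  obtain ⟨k, hk⟩ := IsPGroup.iff_card.1 hPt
  have hk0 : k ≠ 0 := by
    rintro rfl
    rw [pow_zero, Subgroup.card_eq_one] at hk
    exact hA0 hk
  have htA : t ∣ Nat.card A := by rw [hk]; exact dvd_pow_self t hk0
  have htN : t ∣ Nat.card N := htA.trans (Subgroup.card_dvd_of_le hAN)
  by_cases htp : t = p
  · subst htp
    exact hA0 (hcore A hAn hPt)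
  · exact hA0 (hkill t ht htp (fun h => hNr t h htN) (htA.trans (Subgroup.card_subgroup_dvd_card A)) A hAn hAc hAt)

variable {n : ℕ} {Y : Art.Sh} {cls fam : List ℕ} {e₀ p f : ℕ} {M E : ℕ → ℕ}

/-- **The simple normal subgroup**, with killed primes. -/
theorem core_kill (tb : OrderTable.{0}) (hcyc : CycFixSolv.{0})
    (hcfsg : ∀ (S : Type) [Group S] [Finite S] [IsSimpleGroup S], IsKnownSimple' S)
    (ht : Tbl n Y cls e₀) (hsub : ∀ c ∈ cls, c ∈ fam) {e e' : ℕ} (hee : e ∈ cls) (hee' : e' ∈ cls)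
    (hd4 : ncl e (p ^ f) + 4 ≤ ncl e' (p ^ f) ∨ ncl e' (p ^ f) + 4 ≤ ncl e (p ^ f))
    (hcl : ∀ c ∈ fam, Cls c) (h7 : ∀ c ∈ fam, 7 ≤ c)
    (hp : p.Prime) (hf : 1 ≤ f) {F : Type} [Field F] [CharP F p]
    {T : Type} [Group T] [Finite T] (hrep : Fth n F T) (hdT : Nat.card T ∣ OL Y (p ^ f))
    (hbig : ∀ c ∈ fam, ∀ r, Prim (p ^ f) c r → Big T r (M c) (E c)) (hM : ∀ c ∈ fam, M c ∣ (p ^ f) ^ c - 1)
    (hE : ∀ c ∈ fam, ∀ s, s.Prime → s ∣ E c → s ≤ 7) (hsep : ∀ c ∈ fam, ∃ c' ∈ fam, ¬ c' ∣ c)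
    (hnT : ∀ c ∈ fam, ncl c (p ^ f) ∣ Nat.card T)
    {c₀ r₀ : ℕ} (hc₀ : c₀ ∈ fam) (hr₀ : Prim (p ^ f) c₀ r₀) (hpiso : PIso p r₀ T)
    {B : Subgroup T} (hoff : Off (p ^ f) fam B)
    (hgood : ∀ t : ℕ, t.Prime → t ≠ p → (∀ c ∈ fam, ¬ Prim (p ^ f) c t) → t ∣ Nat.card B → Good B n t ∨ KillB B t) :
    ∃ (S : Subgroup B) (_ : S.Normal) (_ : IsSimpleGroup S), ¬ IsMulCommutative S ∧
      (∀ c ∈ fam, ncl c (p ^ f) ∣ Nat.card S) ∧ (∀ c ∈ fam, S.index ∣ E c * M c) ∧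
      (∀ c ∈ fam, ∀ r, Prim (p ^ f) c r → Big S r (M c) (E c) ∧ ¬ r ∣ S.index ∧ r ∣ Nat.card S) ∧
      ∃ g, IsNamed g S ∧ HasChar p g := by
  have := Fact.mk hp
  have hq2 : 2 ≤ p ^ f := hp.two_le.trans (Nat.le_self_pow (by omega) p)
  have hq1 : 1 ≤ p ^ f := by omega
  have hrf := rfam_of hp hf hcl h7 hbig hM hE hsep hnT hoff
  obtain ⟨τ, hτ⟩ := hrep.sub B.subtype B.subtype_injective
  have hr₀B : r₀ ∣ Nat.card B :=
    (dvd_ncl (hcl c₀ hc₀) hq1 hr₀).trans (hoff.ncl_dvd hc₀ (hcl c₀ hc₀) hq1 (hnT c₀ hc₀))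
  have hred : Red ↥B (Pr (Fm (p ^ f) fam M E)) := by
    refine red_kill (p := p) hcyc (fun A hA hAp => pcore_of_piso (hpiso.sub B) hr₀B A hA hAp)
      (pr_fm.2 ⟨c₀, hc₀, hr₀⟩) hr₀.prime hr₀B
      (fun x hx => ((hbig c₀ hc₀ r₀ hr₀).subgroup B).cyc x hx) fun t ht htp htn htB => ?_
    rcases hgood t ht htp (fun c hc h => htn (pr_fm.2 ⟨c, hc, h⟩)) htB with h | h
    · exact Good.kill hτ h ht htp (by rw [Fintype.card_fin])
    · exact h
  obtain ⟨S, hSn, hSs, hSna, hS⟩ :=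
    hrf.exists_full hcyc hred (r₁ := r₀) (m₁ := M c₀) (e₁ := E c₀) ⟨c₀, hc₀, hr₀, rfl, rfl⟩
  have hall : ∀ c ∈ fam, ∀ r, Prim (p ^ f) c r →
      Big S r (M c) (E c) ∧ r ∣ Nat.card S ∧ ¬ r ∣ S.index ∧ S.index ∣ E c * M c :=
    fun c hc r h => hS r (M c) (E c) ⟨c, hc, h, rfl, rfl⟩
  have hnS : ∀ c ∈ fam, ncl c (p ^ f) ∣ Nat.card S := by
    intro c hc
    have h1 := hoff.ncl_dvd hc (hcl c hc) hq1 (hnT c hc)
    rw [← S.index_mul_card] at h1
    exact (coprime_of_prim (hcl c hc) hq1 fun r h => (hall c hc r h).2.2.1).dvd_of_dvd_mul_left h1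
  have hSs' : IsSimpleGroup S := hSs
  refine ⟨S, hSn, hSs, hSna, hnS, fun c hc => ?_, fun c hc r h => ⟨(hall c hc r h).1, (hall c hc r h).2.2.1,
    (hall c hc r h).2.1⟩, ?_⟩
  · obtain ⟨r, hr⟩ := exists_prim hq2 (show 3 ≤ c by have := h7 c hc; omega) (by have := h7 c hc; omega)
    exact (hall c hc r hr).2.2.2
  · have hdS : Nat.card S ∣ OL Y (p ^ f) :=
      ((Subgroup.card_subgroup_dvd_card S).trans (Subgroup.card_subgroup_dvd_card B)).trans hdT
    refine exists_name tb ht.hn ht.hb ht.hs ht.hbS ht.hsS ht.he₀ ht.hmem ht.hle hp hf hSna (hcfsg S)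
      ((hrep.sub B.subtype B.subtype_injective).sub S.subtype S.subtype_injective) (fun c hc => hnS c (hsub c hc)) hdS
      hee hee' (hcl e (hsub e hee)) (hcl e' (hsub e' hee')) (h7 e (hsub e hee)) (h7 e' (hsub e' hee')) hd4 ?_
    · rintro r (h | h) x hx
      · exact (hall e (hsub e hee) r h).1.cyc x hx
      · exact (hall e' (hsub e' hee') r h).1.cyc x hx

end Cfsg.Agent.H190.Odd
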