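import Cfsg.Agent.H56.Exc.Full
import Cfsg.Agent.H515.OddM.NegRows
import Cfsg.Agent.H436.Names
import Cfsg.Agent.H129.CycRow

/-!
# The `2`-part of the index of `F₄(q)`, `L₃(q⁴)` in overgroups

* `index_two` : `S` normal, `Big`, the elements of order `r` of `S` real in `S`: `2 |G : S| ∣ e m`;
* `real_F4` : the elements of class `12` in `F₄(q)` are real;
* `kill_index` : the arithmetic.
-/

set_option autoImplicit false
set_option linter.unusedSectionVars false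

namespace Cfsg.Agent.H190.Odd

open Subgroup Cfsg.Agent.H56.Exc

universe u

/-- an element inverting an element of odd prime order has even order -/
theorem two_dvd_of_inv {G : Type*} [Group G] [Finite G] {x y : G} {r : ℕ} (hr : r.Prime) (hr2 : r ≠ 2)
    (hx : orderOf x = r) (h : y * x * y⁻¹ = x⁻¹) : 2 ∣ orderOf y := by
  by_contra hodd
  have h1 : y ^ 2 * x * (y ^ 2)⁻¹ = x := by
    have e1 : y ^ 2 * x * (y ^ 2)⁻¹ = y * (y * x * y⁻¹) * y⁻¹ := by rw [pow_two]; group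
    rw [e1, h, ← conj_inv, h, inv_inv]
  have hc : Commute (y ^ 2) x := by
    rw [mul_inv_eq_iff_eq_mul] at h1
    exact h1
  obtain ⟨m, hm⟩ : ∃ m, orderOf y + 1 = 2 * m := ⟨(orderOf y + 1) / 2, by omega⟩
  have h2 : (y ^ 2) ^ m = y := by
    rw [← pow_mul, ← hm, pow_succ, pow_orderOf_eq_one, one_mul]
  have h3 : Commute y x := by
    have := hc.pow_left m
    rwa [h2] at this
  rw [h3.eq, mul_inv_cancel_right] at h
  have h4 : x ^ 2 = 1 := by
    rw [pow_two]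
    nth_rewrite 1 [h]
    exact inv_mul_cancel x
  have h5 := orderOf_dvd_of_pow_eq_one h4
  rw [hx] at h5
  exact hr2 ((Nat.prime_dvd_prime_iff_eq hr Nat.prime_two).1 h5)

theorem mem_normalizer_of_inv {G : Type*} [Group G] {x y : G} (h : y * x * y⁻¹ = x⁻¹) :
    y ∈ normalizer (zpowers x : Set G) := by
  have h' : y⁻¹ * x * y = x⁻¹ := by
    have h1 : x = (y * x * y⁻¹)⁻¹ := by rw [h, inv_inv]
    have h2 : y⁻¹ * (y * x * y⁻¹)⁻¹ * y = x⁻¹ := by group
    rwa [← h1] at h2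
  rw [mem_normalizer_iff]
  intro a
  constructor
  · rintro ⟨j, rfl⟩
    show y * x ^ j * y⁻¹ ∈ _
    rw [← conj_zpow, h]
    exact zpow_mem (inv_mem (mem_zpowers x)) j
  · rintro ⟨j, hj⟩
    have hj' : x ^ j = y * a * y⁻¹ := hj
    have h1 : a = (y⁻¹ * x * y) ^ j := by
      have h2 := conj_zpow (i := j) (a := y⁻¹) (b := x)
      rw [inv_inv] at h2
      rw [h2, hj']
      group
    rw [h1, h']
    exact zpow_mem (inv_mem (mem_zpowers x)) j

/-- **The index of a normal subgroup with real elements of order `r`.** -/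
theorem index_two {G : Type u} [Group G] [Finite G] {r m e : ℕ} (h : Big G r m e) (S : Subgroup G) [hSn : S.Normal]
    (hrS : r ∣ Nat.card S) (hr2 : r ≠ 2) (hreal : ∀ x : S, orderOf x = r → ∃ y : S, y * x * y⁻¹ = x⁻¹) :
    S.index * 2 ∣ e * m := by
  have hr := h.prime
  have : Fact r.Prime := ⟨hr⟩
  obtain ⟨P₀⟩ : Nonempty (Sylow r S) := inferInstance
  have hP₀1 : (P₀ : Subgroup S) ≠ ⊥ := by
    intro h1
    have h2 := P₀.card_eq_multiplicity
    rw [h1, Subgroup.card_bot] at h2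
    have h3 : 1 ≤ (Nat.card S).factorization r :=
      (hr.dvd_iff_one_le_factorization Nat.card_pos.ne').1 hrS
    have h4 := Nat.one_lt_pow (Nat.one_le_iff_ne_zero.1 h3) hr.one_lt
    omega
  obtain ⟨x, hxP₀, hx, -⟩ := exists_central_orderOf P₀.2 hP₀1
  have hxG : orderOf (x : G) = r := by rw [Subgroup.orderOf_coe, hx]
  have hcyc : IsCyclic ↥((P₀ : Subgroup S).map S.subtype) := h.isCyclic_of_isPGroup (P₀.2.map _)
  have hF := Sylow.normalizer_sup_eq_top P₀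
  set N := normalizer (((P₀ : Subgroup S).map S.subtype : Subgroup G) : Set G) with hN
  set N' := normalizer (zpowers (x : G) : Set G) with hN'
  have hNle : N ≤ N' := by
    have hsub : ∀ y ∈ N, y * (x : G) * y⁻¹ ∈ zpowers (x : G) := by
      intro y hy
      have h1 : y * (x : G) * y⁻¹ ∈ (P₀ : Subgroup S).map S.subtype :=
        (mem_normalizer_iff.1 hy (x : G)).1 ⟨x, hxP₀, rfl⟩
      exact mem_zpowers_of_cyclic hcyc ⟨x, hxP₀, rfl⟩ h1 (by
        rw [show orderOf (y * (x : G) * y⁻¹) = orderOf (x : G) from by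
          rw [← MulAut.conj_apply]; exact (MulAut.conj y).orderOf_eq _])
    have hsub' : ∀ y ∈ N, ∀ a ∈ zpowers (x : G), y * a * y⁻¹ ∈ zpowers (x : G) := by
      rintro y hy _ ⟨j, rfl⟩
      show y * (x : G) ^ j * y⁻¹ ∈ _
      rw [← conj_zpow]
      exact zpow_mem (hsub y hy) j
    intro y hy
    rw [mem_normalizer_iff]
    intro a
    refine ⟨fun ha => hsub' y hy a ha, fun ha => ?_⟩
    have := hsub' y⁻¹ (inv_mem hy) _ ha
    have e1 : y⁻¹ * (y * a * y⁻¹) * y⁻¹⁻¹ = a := by group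
    rwa [e1] at this
  have hF' : N' ⊔ S = ⊤ := by
    rw [eq_top_iff, ← hF]
    exact sup_le_sup_right hNle S
  have h1 : S.index = S.relIndex N' := by
    rw [← relIndex_top_right, ← hF', sup_comm, relIndex_sup_left]
  obtain ⟨y, hy⟩ := hreal x hx
  have hyG : (y : G) * (x : G) * (y : G)⁻¹ = (x : G)⁻¹ := congrArg Subtype.val hy
  have hyN : (y : G) ∈ N' := mem_normalizer_of_inv hyG
  have h2 : 2 ∣ Nat.card ↥(S.subgroupOf N') := by
    have h3 : (⟨(y : G), hyN⟩ : N') ∈ S.subgroupOf N' := y.2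
    have h4 : orderOf (⟨⟨(y : G), hyN⟩, h3⟩ : ↥(S.subgroupOf N')) = orderOf (y : G) := by
      rw [← Subgroup.orderOf_coe, ← Subgroup.orderOf_coe]
    exact ((two_dvd_of_inv hr hr2 hxG hyG).trans h4.symm.dvd).trans (orderOf_dvd_natCard _)
  rw [h1]
  refine dvd_trans ?_ (h.card_normalizer_dvd hxG)
  show S.relIndex N' * 2 ∣ Nat.card N'
  rw [← (S.subgroupOf N').index_mul_card]
  exact mul_dvd_mul_left _ h2

/-! ### `F₄(q)` -/

section F4

open Cfsg Cfsg.Lie Cfsg.Lie.ChevalleyDatum Cfsg.Agent.H436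
open Cfsg.Agent.H129 Cfsg.Agent.H129.CycT Cfsg.Agent.H129.CycCard Cfsg.Agent.H129.TorusChar Cfsg.Agent.H129.TorusTw
  Cfsg.Agent.H129.WData Cfsg.Agent.H129.TorAct Cfsg.Agent.H129.RealT Cfsg.Agent.H515.OddM

variable {F : Type u} [Field F] [Fintype F] {q : ℕ}

/-- the elements of class `12` in `F₄(q)` are real -/
theorem real_F4 (hq : Fintype.card F = q) {r : ℕ} (hr : Prim q 12 r) {x : ↥(chevF4.group F)} (hx : orderOf x = r) :
    ∃ y : ↥(chevF4.group F), y * x * y⁻¹ = x⁻¹ := by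
  have : Finite CoxeterMatrix.F₄.Group := Nat.finite_of_card_ne_zero (by rw [cardW_F4]; norm_num)
  have h := prim_dvd_12 hr
  have hlt := prim_lt hr (by norm_num)
  obtain ⟨m, hm⟩ := Cfsg.Agent.H515.OddM.exists_nat (z := 1 - (q : ℤ) ^ 2 + (q : ℤ) ^ 4)
    (by nlinarith [sq_nonneg ((q : ℤ) ^ 2 - 1)])
  have hrm : r ∣ m := dvd_of_int h (by rw [hm, mul_one])
  have hg := good_F4_12 hm hr.prime hrm
  obtain ⟨T, h1, h2, h3, h4⟩ := neg_T typeF4 CoxeterMatrix.F₄.toCoxeterSystem (by norm_num) hq TorusChar.invC_F4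
    (Cfsg.Agent.H696.GmnNeg.negF4 typeF4 _) DataF4h.hA
    DataF4h.chainOK DataF4h.cycOK DataF4h.rootOK (by rw [DataF4h.fN_eq, hm])
    (UntwData.coprime_of_eq (a := -(q : ℤ) + (q : ℤ) ^ 3) (by rw [hm]; ring))
  obtain ⟨y, hy⟩ := h4 r hr.prime hrm hg.1 hg.2
  obtain ⟨g, hgT, -⟩ := centralizer_conj h1 hr.prime (h2 ▸ hrm) (h3 r hr.prime hg.1 hg.2) hx
  refine ⟨g⁻¹ * y * g, ?_⟩
  have h5 := hy _ hgT
  calc g⁻¹ * y * g * x * (g⁻¹ * y * g)⁻¹ = g⁻¹ * (y * (g * x * g⁻¹) * y⁻¹) * g := by group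
    _ = x⁻¹ := by rw [h5]; group

theorem real_named_F4 {S : Type*} [Group S] (hS : IsNamed (.f4 q) S) {r : ℕ} (hr : Prim q 12 r) {x : S}
    (hx : orderOf x = r) : ∃ y : S, y * x * y⁻¹ = x⁻¹ := by
  obtain ⟨K, _, _, hK, ⟨e⟩⟩ := hS.real
  obtain ⟨y, hy⟩ := real_F4 hK hr (x := e x) (by rw [← hx]; exact MulEquiv.orderOf_eq e x)
  refine ⟨e.symm y, e.injective ?_⟩
  rw [map_mul, map_mul, map_inv, map_inv, e.apply_symm_apply]
  exact hy

/-- the order of `L₃(Q)` -/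
theorem psl3_num {S : Type*} [Group S] {Q : ℕ} (hS : IsNamed (.psl 3 Q) S) (hQ : 2 ≤ Q) :
    Nat.gcd 3 (Q - 1) * Nat.card S = Q ^ 3 * ((Q ^ 2 - 1) * (Q ^ 3 - 1)) := by
  have h : Nat.gcd 3 (Q - 1) * (Q - 1) * Nat.card S = (Q ^ 3 - Q ^ 0) * ((Q ^ 3 - Q ^ 1) * ((Q ^ 3 - Q ^ 2) * 1)) := hS.eq
  have h0 : 0 < Q - 1 := by omega
  apply Nat.eq_of_mul_eq_mul_left h0
  rw [show (Q - 1) * (Nat.gcd 3 (Q - 1) * Nat.card S) = Nat.gcd 3 (Q - 1) * (Q - 1) * Nat.card S by ring, h]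
  obtain ⟨k, rfl⟩ := Nat.exists_eq_add_of_le' hQ
  have e1 : (k + 2) ^ 3 - (k + 2) ^ 1 = (k + 2) * ((k + 2) ^ 2 - 1) := by
    rw [Nat.mul_sub, mul_one, pow_one]
    congr 1
    ring
  have e2 : (k + 2) ^ 3 - (k + 2) ^ 2 = (k + 2) ^ 2 * (k + 2 - 1) := by
    rw [Nat.mul_sub, mul_one]
    congr 1
  rw [e1, e2, pow_zero, mul_one]
  ring

end F4

/-! ### arithmetic -/

/-- the arithmetic -/
theorem kill_index {D d X S I J NS C a : ℕ} (hX : D * X = NS * C) (hS : d * S = NS) (hXS : X = J * (I * S)) (hS0 : 0 < S)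
    (hD : Odd D) (hJ : Odd J) (h2 : 2 ^ a ∣ C) : 2 ^ a ∣ I := by
  have h1 : (D * J) * I = d * C := by
    apply Nat.eq_of_mul_eq_mul_right hS0
    calc (D * J) * I * S = D * (J * (I * S)) := by ring
      _ = D * X := by rw [hXS]
      _ = NS * C := hX
      _ = d * C * S := by rw [← hS]; ring
  have h3 : 2 ^ a ∣ (D * J) * I := by rw [h1]; exact h2.mul_left _
  refine (Nat.Coprime.dvd_of_dvd_mul_left ?_ h3)
  exact Nat.Coprime.pow_left a (Nat.coprime_two_left.2 (hD.mul hJ))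

theorem two_dvd_sub {q n : ℕ} (ho : Odd q) : 2 ∣ q ^ n - 1 := by
  have h1 : Odd (q ^ n) := ho.pow
  obtain ⟨k, hk⟩ := h1
  rw [hk, Nat.add_sub_cancel]
  exact Dvd.intro _ rfl

theorem two_dvd_add {q n : ℕ} (ho : Odd q) : 2 ∣ q ^ n + 1 := by
  have h1 : Odd (q ^ n) := ho.pow
  obtain ⟨k, hk⟩ := h1
  rw [hk]
  exact ⟨k + 1, by ring⟩

end Cfsg.Agent.H190.Odd
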