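import Cfsg.Agent.H563.KG.GoodE
import Cfsg.Agent.H190.Exc.Wt3
import Cfsg.Agent.H190.Odd.CoreKill

/-!
# The classes `12`, `8` are good for all primes in `E₆(q)`, `²E₆(q)`, `q` odd

`good_e6b`, `good_te6b`.
-/

set_option autoImplicit false

namespace Cfsg.Agent.H190.Odd

open Cfsg Cfsg.Agent.OrdDiv Cfsg.Agent.H436 Cfsg.Agent.H902 Cfsg.Agent.H290.ElReg Cfsg.Agent.H290.ElTab
  Cfsg.Agent.H56.Exc Cfsg.Agent.H325.Loc Cfsg.Agent.H563.KG

theorem modEq_comm {G : Type*} [Group G] [Finite G] {A : Subgroup G} [A.Normal] {x : G} {r : ℕ} (hr : r.Prime)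
    (hx : orderOf x = r) : Nat.card A ≡ Nat.card {a : G // a ∈ A ∧ x * a = a * x} [MOD r] := by
  have := Fact.mk hr
  let φ : Subgroup.zpowers x →* MulAut A := (MulAut.conjNormal (H := A)).comp (Subgroup.zpowers x).subtype
  let _ : MulAction (Subgroup.zpowers x) A := MulAction.compHom A φ
  have hP : IsPGroup r (Subgroup.zpowers x) := IsPGroup.of_card (n := 1) (by rw [Nat.card_zpowers, hx, pow_one])
  have h1 := hP.card_modEq_card_fixedPoints A
  have h2 : Nat.card (MulAction.fixedPoints (Subgroup.zpowers x) A) = Nat.card {a : G // a ∈ A ∧ x * a = a * x} := by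
    have hact : ∀ (y : Subgroup.zpowers x) (a : A), ((y • a : A) : G) = (y : G) * a * (y : G)⁻¹ := fun y a =>
      MulAut.conjNormal_apply _ _
    refine Nat.card_congr ⟨fun a => ⟨a.1.1, a.1.2, ?_⟩, fun a => ⟨⟨a.1, a.2.1⟩, fun y => Subtype.ext ?_⟩,
      fun a => rfl, fun a => rfl⟩
    · have h3 := congrArg Subtype.val (a.2 ⟨x, Subgroup.mem_zpowers x⟩)
      rw [hact] at h3
      exact mul_inv_eq_iff_eq_mul.1 h3
    · rw [hact]
      have hc : Commute x a.1 := a.2.2
      obtain ⟨j, hj⟩ := y.2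
      have hj' : x ^ j = (y : G) := hj
      show (y : G) * a.1 * (y : G)⁻¹ = a.1
      rw [← hj', (hc.zpow_left j).eq, mul_inv_cancel_right]
  rwa [h2] at h1

/-- `O₂ = 1` through elements of order `41` and `73` -/
theorem kill_two {G : Type*} [Group G] [Finite G] (hd : ¬ 2 ^ 20 ∣ Nat.card G) (h41 : 41 ∣ Nat.card G)
    (hc41 : ∀ x : G, orderOf x = 41 → IsCyclic ↥(Subgroup.centralizer ({x} : Set G))) (h73 : 73 ∣ Nat.card G)
    (hc73 : ∀ x : G, orderOf x = 73 → ¬ 2 ∣ Nat.card ↥(Subgroup.centralizer ({x} : Set G))) : KillB G 2 := by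
  intro A hAn hAc hAt
  have hp41 : Nat.Prime 41 := by norm_num
  have hp73 : Nat.Prime 73 := by norm_num
  have := Fact.mk hp41
  have := Fact.mk hp73
  have := Fact.mk Nat.prime_two
  have hPt : IsPGroup 2 A := fun a => ⟨1, by rw [pow_one]; exact Subtype.ext (hAt a a.2)⟩
  obtain ⟨k, hk⟩ := IsPGroup.iff_card.1 hPt
  have hk20 : k < 20 := by
    by_contra hcon
    exact hd ((pow_dvd_pow 2 (by omega)).trans (hk ▸ Subgroup.card_subgroup_dvd_card A))
  obtain ⟨x, hx⟩ := exists_prime_orderOf_dvd_card' 41 h41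
  obtain ⟨y, hy⟩ := exists_prime_orderOf_dvd_card' 73 h73
  have h1 := modEq_comm (A := A) hp41 hx
  have h2 := Cfsg.Agent.H190.Exc.card_comm_le Nat.prime_two hAt (hc41 x hx)
  have h3 : 0 < Nat.card {a : G // a ∈ A ∧ x * a = a * x} := by
    have : Nonempty {a : G // a ∈ A ∧ x * a = a * x} := ⟨⟨1, one_mem A, by rw [mul_one, one_mul]⟩⟩
    exact Nat.card_pos
  generalize Nat.card {a : G // a ∈ A ∧ x * a = a * x} = c at h1 h2 h3
  have hA2 : Nat.card A ≤ 2 := by
    rw [hk] at h1 ⊢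
    have hc : c = 1 ∨ c = 2 := by omega
    rcases hc with rfl | rfl <;> interval_cases k <;> first | decide | (exfalso; revert h1; decide)
  have h4 := dvd_card_sub_one (A := A) hp73 hy fun a ha hc => by
    have h5 : a ∈ Subgroup.centralizer ({y} : Set G) := Subgroup.mem_centralizer_singleton_iff.2 hc.symm
    have h6 : orderOf a ∣ Nat.card ↥(Subgroup.centralizer ({y} : Set G)) := by
      have h7 : orderOf (⟨a, h5⟩ : ↥(Subgroup.centralizer ({y} : Set G))) = orderOf a := by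
        rw [← Subgroup.orderOf_coe]
      rw [← h7]
      exact orderOf_dvd_natCard _
    rcases (Nat.dvd_prime Nat.prime_two).1 (orderOf_dvd_of_pow_eq_one (hAt a ha)) with h7 | h7
    · rwa [orderOf_eq_one_iff] at h7
    · rw [h7] at h6
      exact absurd h6 (hc73 y hy)
  have h5 : Nat.card A - 1 = 0 := Nat.eq_zero_of_dvd_of_lt h4 (by omega)
  have h6 : 0 < Nat.card A := Nat.card_pos
  exact Subgroup.card_eq_one.1 (by omega)

theorem free_of {G : Type*} [Group G] [Finite G] {q e t : ℕ} (he : Cls e) (hq : 1 ≤ q)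
    (ht : t.Prime) (h : ∀ r, Prim q e r → ∀ x : G, orderOf x = r →
      ¬ t ∣ Nat.card ↥(Subgroup.centralizer ({x} : Set G))) : Free G t (ncl e q) := by
  intro x hx hxm a ha hc
  have h1 := h _ (prim_of_dvd he hq hx hxm) x rfl
  have h2 : a ∈ Subgroup.centralizer ({x} : Set G) := Subgroup.mem_centralizer_singleton_iff.2 hc.symm
  have h3 : orderOf a ∣ Nat.card ↥(Subgroup.centralizer ({x} : Set G)) := by
    have h4 : orderOf (⟨a, h2⟩ : ↥(Subgroup.centralizer ({x} : Set G))) = orderOf a := by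
      rw [← Subgroup.orderOf_coe]
    rw [← h4]
    exact orderOf_dvd_natCard _
  rcases (Nat.dvd_prime ht).1 (orderOf_dvd_of_pow_eq_one ha) with h5 | h5
  · rwa [orderOf_eq_one_iff] at h5
  · rw [h5] at h3
    exact absurd h3 h1

theorem prime_mem {t : ℕ} (ht : t.Prime) : ∀ (L : List (ℕ × ℕ)), (∀ x ∈ L, x.1.Prime) →
    t ∣ (L.map fun x => x.1 ^ x.2).prod → ∃ x ∈ L, t = x.1
  | [], _, h => absurd (Nat.dvd_one.1 (by simpa using h)) ht.one_lt.ne'
  | x :: L, hL, h => by
    rw [List.map_cons, List.prod_cons] at h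
    rcases ht.dvd_mul.1 h with h1 | h1
    · exact ⟨x, List.mem_cons_self, (Nat.prime_dvd_prime_iff_eq ht (hL x List.mem_cons_self)).1 (ht.dvd_of_dvd_pow h1)⟩
    · obtain ⟨y, hy, h2⟩ := prime_mem ht L (fun y hy => hL y (List.mem_cons_of_mem _ hy)) h1
      exact ⟨y, List.mem_cons_of_mem _ hy, h2⟩

/-- the factorization of the order of `E₆(3)` -/
def fe3 : List (ℕ × ℕ) := [(2, 17), (3, 36), (5, 2), (7, 2), (11, 2), (13, 3), (41, 1), (73, 1), (757, 1)]

/-- the factorization of the order of `²E₆(3)` -/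
def ft3 : List (ℕ × ℕ) := [(2, 19), (3, 36), (5, 2), (7, 3), (13, 2), (19, 1), (37, 1), (41, 1), (61, 1), (73, 1)]

theorem fe3_eq : OL .E6 3 = (fe3.map fun x => x.1 ^ x.2).prod := by decide +kernel
theorem ft3_eq : OL .TE6 3 = (ft3.map fun x => x.1 ^ x.2).prod := by decide +kernel

theorem fe3_prime : ∀ x ∈ fe3, x.1.Prime := by
  intro x hx
  simp only [fe3, List.mem_cons, List.not_mem_nil, or_false] at hx
  rcases hx with rfl | rfl | rfl | rfl | rfl | rfl | rfl | rfl | rfl <;> norm_num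

theorem ft3_prime : ∀ x ∈ ft3, x.1.Prime := by
  intro x hx
  simp only [ft3, List.mem_cons, List.not_mem_nil, or_false] at hx
  rcases hx with rfl | rfl | rfl | rfl | rfl | rfl | rfl | rfl | rfl | rfl <;> norm_num

section Num

variable {q t : ℕ}

theorem gt12 (hq : 4 ≤ q) : 78 < ncl 12 q := by
  rw [ncl12_eq, Ph12_eq (by omega)]
  have h1 : 4 ^ 2 ≤ q ^ 2 := Nat.pow_le_pow_left hq 2
  have h2 : 16 * 15 ≤ q ^ 2 * (q ^ 2 - 1) := Nat.mul_le_mul (by omega) (by omega)
  omega

theorem gt8 (hq : 4 ≤ q) : 78 < ncl 8 q := by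
  refine ncl_gt (by decide) ?_
  show 78 * 2 < q ^ 4 + 1
  have h1 : 4 ^ 4 ≤ q ^ 4 := Nat.pow_le_pow_left hq 4
  omega

theorem sq_sub {q : ℕ} : q ^ 2 - 1 = (q - 1) * (q + 1) := by
  have := Nat.sq_sub_sq q 1
  rw [one_pow] at this
  rw [this, mul_comm]

/-- a divisor of `q² + q + 1` -/
theorem not8_plus (hq : 2 ≤ q) (ht : t.Prime) (ht3 : t ≠ 3) (h : t ∣ q ^ 2 + q + 1) (h8 : ¬ Prim q 8 t) :
    ¬ t ∣ Ph 8 q * (q ^ 2 - 1) := by
  have c8 : Cls 8 := by unfold Cls; omega
  have h2 : t ≠ 2 := by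
    rintro rfl
    rw [← ZMod.natCast_eq_zero_iff] at h
    push_cast at h
    generalize (q : ZMod 2) = x at h
    revert x; decide
  intro h1
  rcases ht.dvd_mul.1 h1 with h3 | h3
  · exact h2 ((Nat.prime_dvd_prime_iff_eq ht Nat.prime_two).1 (eq_cc c8 (by omega) ht h8 h3))
  · rw [sq_sub] at h3
    rcases ht.dvd_mul.1 h3 with h4 | h4
    · obtain ⟨k, rfl⟩ := Nat.exists_eq_add_of_le' (show 1 ≤ q by omega)
      rw [Nat.add_sub_cancel] at h4
      have h5 : (k + 1) ^ 2 + (k + 1) + 1 = k * (k + 3) + 3 := by ring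
      rw [h5] at h
      exact ht3 ((Nat.prime_dvd_prime_iff_eq ht Nat.prime_three).1 ((Nat.dvd_add_right (h4.mul_right _)).1 h))
    · have h5 : q ^ 2 + q + 1 = q * (q + 1) + 1 := by ring
      rw [h5] at h
      exact ht.one_lt.ne' (Nat.dvd_one.1 ((Nat.dvd_add_right (h4.mul_left _)).1 h))

/-- a divisor of `q² - q + 1` -/
theorem not8_minus (hq : 2 ≤ q) (ht : t.Prime) (ht3 : t ≠ 3) (h : t ∣ q ^ 2 - q + 1) (h8 : ¬ Prim q 8 t) :
    ¬ t ∣ Ph 8 q * (q ^ 2 - 1) := by
  have c8 : Cls 8 := by unfold Cls; omega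
  have hle : q ≤ q ^ 2 := Nat.le_self_pow (by norm_num) q
  have h2 : t ≠ 2 := by
    rintro rfl
    rw [← ZMod.natCast_eq_zero_iff] at h
    push_cast [Nat.cast_sub hle] at h
    generalize (q : ZMod 2) = x at h
    revert x; decide
  intro h1
  rcases ht.dvd_mul.1 h1 with h3 | h3
  · exact h2 ((Nat.prime_dvd_prime_iff_eq ht Nat.prime_two).1 (eq_cc c8 (by omega) ht h8 h3))
  · rw [sq_sub] at h3
    obtain ⟨k, rfl⟩ := Nat.exists_eq_add_of_le' (show 1 ≤ q by omega)
    have h0 : (k + 1) ^ 2 - (k + 1) + 1 = k * (k + 1) + 1 := by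
      have : (k + 1) ^ 2 = k * (k + 1) + (k + 1) := by ring
      omega
    rw [h0] at h
    rw [Nat.add_sub_cancel] at h3
    rcases ht.dvd_mul.1 h3 with h4 | h4
    · exact ht.one_lt.ne' (Nat.dvd_one.1 ((Nat.dvd_add_right (h4.mul_right _)).1 h))
    · -- `k (k + 1) + 1 = (k + 2) (k - 1) + 3`
      have h5 : (k * (k + 1) + 1) + (k + 2) * 1 = (k + 2) * k + 3 := by ring
      have h6 : t ∣ (k + 2) * k + 3 := h5 ▸ dvd_add h (h4.mul_right _)
      exact ht3 ((Nat.prime_dvd_prime_iff_eq ht Nat.prime_three).1 ((Nat.dvd_add_right (h4.mul_right _)).1 h6))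

end Num

/-- **`E₆(q)`, `q` odd, the classes 12, 8.** -/
theorem good_e6b {G : Type*} [Group G] [Finite G] {q n : ℕ} (hn : n ≤ 78) (hq : 3 ≤ q) (ho : ¬ 2 ∣ q)
    (h12 : Ord G q 12 (Ph 12 q * (q ^ 2 + q + 1)))
    (h3x : 3 ∣ q - 1 → ∀ r, Prim q 12 r → ∀ x : G, orderOf x = r →
      ¬ 3 ∣ Nat.card ↥(Subgroup.centralizer ({x} : Set G)))
    (h8 : Ord G q 8 (Ph 8 q * (q ^ 2 - 1)))
    (hcyc : ∀ r, Prim q 8 r → ∀ x : G, orderOf x = r → IsCyclic ↥(Subgroup.centralizer ({x} : Set G)))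
    (hd : Nat.card G ∣ OL .E6 q) (g12 : ncl 12 q ∣ Nat.card G) (g8 : ncl 8 q ∣ Nat.card G)
    {t : ℕ} (ht : t.Prime) (htq : ¬ t ∣ q) (ht12 : ¬ Prim q 12 t) (ht8 : ¬ Prim q 8 t) (htG : t ∣ Nat.card G) :
    Good G n t ∨ KillB G t := by
  have hq1 : 1 ≤ q := by omega
  have c12 : Cls 12 := by unfold Cls; omega
  have c8 : Cls 8 := by unfold Cls; omega
  have k12 : ¬ t ∣ Ph 12 q := by rw [← ncl12_eq]; exact not_dvd_of_not_prim c12 hq1 ht ht12
  by_cases hA : t ∣ q ^ 2 + q + 1
  · by_cases h3 : t = 3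
    · left
      subst h3
      have h4 : 3 ∣ q - 1 := by
        have h5 : (q : ZMod 3) = 1 := by
          rw [← ZMod.natCast_eq_zero_iff] at hA
          push_cast at hA
          generalize (q : ZMod 3) = x at hA ⊢
          revert x; decide
        rw [← ZMod.natCast_eq_zero_iff, Nat.cast_sub hq1, h5, Nat.cast_one, sub_self]
      have h5 : 4 ≤ q := by
        by_contra hcon
        have : q = 3 := by omega
        subst this
        exact htq dvd_rfl
      exact ⟨ncl 12 q, g12, free_of c12 hq1 ht (h3x h4), Or.inl (lt_of_le_of_lt hn (gt12 h5))⟩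
    · left
      have h4 := not8_plus (by omega) ht h3 hA ht8
      have h5 : Free G t (ncl 8 q) := h8.free c8 hq1 ht h4
      rcases eq_or_lt_of_le hq with rfl | hq4
      · have h6 : (3 ^ 2 + 3 + 1 : ℕ) = 13 := by norm_num
        rw [h6] at hA
        obtain rfl := (Nat.prime_dvd_prime_iff_eq ht (by norm_num)).1 hA
        have h7 : ncl 8 3 = 41 := by decide +kernel
        refine ⟨ncl 8 3, g8, h5, Or.inr ⟨by rw [h7]; norm_num, fun k hk hkG => ?_⟩⟩
        have h8 : k ≤ 3 := pow_bound (M := OL .E6 3) (by decide +kernel) (hkG.trans hd)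
        rw [h7]
        interval_cases k <;> norm_num
      · exact ⟨ncl 8 q, g8, h5, Or.inl (lt_of_le_of_lt hn (gt8 hq4))⟩
  · have h4 : ¬ t ∣ Ph 12 q * (q ^ 2 + q + 1) := fun h => by
      rcases ht.dvd_mul.1 h with h | h
      · exact k12 h
      · exact hA h
    rcases eq_or_lt_of_le hq with rfl | hq4
    · have h7 : ncl 12 3 = 73 := by decide +kernel
      have h7' : ncl 8 3 = 41 := by decide +kernel
      have h5 : Free G t (ncl 12 3) := h12.free c12 hq1 ht h4
      have h6 := htG.trans hd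
      rw [fe3_eq] at h6
      obtain ⟨y, hy, hty⟩ := prime_mem ht fe3 fe3_prime h6
      simp only [fe3, List.mem_cons, List.not_mem_nil, or_false] at hy
      have key : ∀ K, ¬ t ^ (K + 1) ∣ OL .E6 3 → (∀ k ≤ K, 0 < k → ¬ 73 ∣ t ^ k - 1) → Good G n t := by
        intro K hK hk
        refine ⟨ncl 12 3, g12, h5, Or.inr ⟨by rw [h7]; norm_num, fun k hk0 hkG => ?_⟩⟩
        rw [h7]
        exact hk k (pow_bound hK (hkG.trans hd)) hk0
      rcases hy with rfl | rfl | rfl | rfl | rfl | rfl | rfl | rfl | rfl <;> (simp only at hty; subst hty)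
      · right
        refine kill_two (fun h => ?_) (h7' ▸ g8) (fun x hx => hcyc 41 ?_ x hx) (h7 ▸ g12) (fun x hx h => ?_)
        · have h8 : ¬ 2 ^ 20 ∣ OL .E6 3 := by decide +kernel
          exact h8 (h.trans hd)
        · exact prim_of_dvd c8 hq1 (by norm_num) (by rw [h7'])
        · have h9 := h12 73 (prim_of_dvd c12 hq1 (by norm_num) (by rw [h7])) x hx
          exact h4 (h.trans h9)
      · exact absurd dvd_rfl htq
      · exact Or.inl (key 2 (by decide +kernel) fun k hk hk0 => by interval_cases k <;> norm_num)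
      · exact Or.inl (key 2 (by decide +kernel) fun k hk hk0 => by interval_cases k <;> norm_num)
      · exact Or.inl (key 2 (by decide +kernel) fun k hk hk0 => by interval_cases k <;> norm_num)
      · exact absurd (by norm_num) hA
      · exact absurd (prim_of_dvd c8 hq1 (by norm_num) (by rw [h7'])) ht8
      · exact absurd (prim_of_dvd c12 hq1 (by norm_num) (by rw [h7])) ht12
      · exact Or.inl (key 1 (by decide +kernel) fun k hk hk0 => by interval_cases k <;> norm_num)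
    · left
      exact ⟨ncl 12 q, g12, h12.free c12 hq1 ht h4, Or.inl (lt_of_le_of_lt hn (gt12 hq4))⟩

/-- **`²E₆(q)`, `q` odd, the classes 12, 8.** -/
theorem good_te6b {G : Type*} [Group G] [Finite G] {q n : ℕ} (hn : n ≤ 78) (hq : 3 ≤ q) (ho : ¬ 2 ∣ q)
    (h12 : Ord G q 12 (Ph 12 q * (q ^ 2 - q + 1)))
    (h3x : 3 ∣ q + 1 → ∀ r, Prim q 12 r → ∀ x : G, orderOf x = r →
      ¬ 3 ∣ Nat.card ↥(Subgroup.centralizer ({x} : Set G)))
    (h8 : Ord G q 8 (Ph 8 q * (q ^ 2 - 1)))
    (hcyc : ∀ r, Prim q 8 r → ∀ x : G, orderOf x = r → IsCyclic ↥(Subgroup.centralizer ({x} : Set G)))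
    (hd : Nat.card G ∣ OL .TE6 q) (g12 : ncl 12 q ∣ Nat.card G) (g8 : ncl 8 q ∣ Nat.card G)
    {t : ℕ} (ht : t.Prime) (htq : ¬ t ∣ q) (ht12 : ¬ Prim q 12 t) (ht8 : ¬ Prim q 8 t) (htG : t ∣ Nat.card G) :
    Good G n t ∨ KillB G t := by
  have hq1 : 1 ≤ q := by omega
  have hle : q ≤ q ^ 2 := Nat.le_self_pow (by norm_num) q
  have c12 : Cls 12 := by unfold Cls; omega
  have c8 : Cls 8 := by unfold Cls; omega
  have k12 : ¬ t ∣ Ph 12 q := by rw [← ncl12_eq]; exact not_dvd_of_not_prim c12 hq1 ht ht12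
  by_cases hA : t ∣ q ^ 2 - q + 1
  · by_cases h3 : t = 3
    · left
      subst h3
      have h4 : 3 ∣ q + 1 := by
        have h5 : (q : ZMod 3) = 2 := by
          rw [← ZMod.natCast_eq_zero_iff] at hA
          push_cast [Nat.cast_sub hle] at hA
          generalize (q : ZMod 3) = x at hA ⊢
          revert x; decide
        rw [← ZMod.natCast_eq_zero_iff]
        push_cast
        rw [h5]
        decide
      have h5 : 4 ≤ q := by
        by_contra hcon
        have : q = 3 := by omega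
        subst this
        exact htq dvd_rfl
      exact ⟨ncl 12 q, g12, free_of c12 hq1 ht (h3x h4), Or.inl (lt_of_le_of_lt hn (gt12 h5))⟩
    · left
      have h4 := not8_minus (by omega) ht h3 hA ht8
      have h5 : Free G t (ncl 8 q) := h8.free c8 hq1 ht h4
      rcases eq_or_lt_of_le hq with rfl | hq4
      · have h6 : (3 ^ 2 - 3 + 1 : ℕ) = 7 := by norm_num
        rw [h6] at hA
        obtain rfl := (Nat.prime_dvd_prime_iff_eq ht (by norm_num)).1 hA
        have h7 : ncl 8 3 = 41 := by decide +kernel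
        refine ⟨ncl 8 3, g8, h5, Or.inr ⟨by rw [h7]; norm_num, fun k hk hkG => ?_⟩⟩
        have h8 : k ≤ 3 := pow_bound (M := OL .TE6 3) (by decide +kernel) (hkG.trans hd)
        rw [h7]
        interval_cases k <;> norm_num
      · exact ⟨ncl 8 q, g8, h5, Or.inl (lt_of_le_of_lt hn (gt8 hq4))⟩
  · have h4 : ¬ t ∣ Ph 12 q * (q ^ 2 - q + 1) := fun h => by
      rcases ht.dvd_mul.1 h with h | h
      · exact k12 h
      · exact hA h
    rcases eq_or_lt_of_le hq with rfl | hq4
    · have h7 : ncl 12 3 = 73 := by decide +kernel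
      have h7' : ncl 8 3 = 41 := by decide +kernel
      have h5 : Free G t (ncl 12 3) := h12.free c12 hq1 ht h4
      have h6 := htG.trans hd
      rw [ft3_eq] at h6
      obtain ⟨y, hy, hty⟩ := prime_mem ht ft3 ft3_prime h6
      simp only [ft3, List.mem_cons, List.not_mem_nil, or_false] at hy
      have key : ∀ K, ¬ t ^ (K + 1) ∣ OL .TE6 3 → (∀ k ≤ K, 0 < k → ¬ 73 ∣ t ^ k - 1) → Good G n t := by
        intro K hK hk
        refine ⟨ncl 12 3, g12, h5, Or.inr ⟨by rw [h7]; norm_num, fun k hk0 hkG => ?_⟩⟩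
        rw [h7]
        exact hk k (pow_bound hK (hkG.trans hd)) hk0
      rcases hy with rfl | rfl | rfl | rfl | rfl | rfl | rfl | rfl | rfl | rfl <;> (simp only at hty; subst hty)
      · right
        refine kill_two (fun h => ?_) (h7' ▸ g8) (fun x hx => hcyc 41 ?_ x hx) (h7 ▸ g12) (fun x hx h => ?_)
        · have h8 : ¬ 2 ^ 20 ∣ OL .TE6 3 := by decide +kernel
          exact h8 (h.trans hd)
        · exact prim_of_dvd c8 hq1 (by norm_num) (by rw [h7'])
        · have h9 := h12 73 (prim_of_dvd c12 hq1 (by norm_num) (by rw [h7])) x hx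
          exact h4 (h.trans h9)
      · exact absurd dvd_rfl htq
      · exact Or.inl (key 2 (by decide +kernel) fun k hk hk0 => by interval_cases k <;> norm_num)
      · exact absurd (by norm_num) hA
      · exact Or.inl (key 2 (by decide +kernel) fun k hk hk0 => by interval_cases k <;> norm_num)
      · exact Or.inl (key 1 (by decide +kernel) fun k hk hk0 => by interval_cases k <;> norm_num)
      · exact Or.inl (key 1 (by decide +kernel) fun k hk hk0 => by interval_cases k <;> norm_num)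
      · exact absurd (prim_of_dvd c8 hq1 (by norm_num) (by rw [h7'])) ht8
      · exact Or.inl (key 1 (by decide +kernel) fun k hk hk0 => by interval_cases k <;> norm_num)
      · exact absurd (prim_of_dvd c12 hq1 (by norm_num) (by rw [h7])) ht12
    · left
      exact ⟨ncl 12 q, g12, h12.free c12 hq1 ht h4, Or.inl (lt_of_le_of_lt hn (gt12 hq4))⟩

end Cfsg.Agent.H190.Odd
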