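import Cfsg.Agent.H190.Exc.CycE6
import Cfsg.Agent.H453.OddM.Defs

/-!
# TEAM ODDM (S4785): reality of the elements of cyclic tori

* `isReal_of_act` : `y b^s y⁻¹ = b` on `T`, the order of `x ∈ T` divides `s^k + 1`: `x` is real;
* `not_dvd_index` : `T` cyclic, containing the centralisers of its elements of order `u`, whose elements of `u`-power order
  are real: a subgroup meeting all real classes has index prime to `u`;
* `off_e6`, `off_te6` : the classes `12`, `8` in `E₆(q)`, `²E₆(q)`.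
-/

set_option autoImplicit false
set_option linter.unusedSectionVars false

namespace Cfsg.Agent.H190.Odd

open Cfsg Cfsg.Lie Cfsg.Agent.H190.Exc Cfsg.Agent.H453.OddM
open Cfsg.Agent.H129 Cfsg.Agent.H129.CycT Cfsg.Agent.H129.RealT Cfsg.Agent.H129.TorusTw Cfsg.Agent.H129.WData
open Cfsg.Agent.H436 (Prim)

universe u

section Abs

variable {G : Type*} [Group G]

theorem act_pow {T : Subgroup G} {y : G} {s : ℕ} (h : ∀ b ∈ T, y * b ^ s * y⁻¹ = b) (k : ℕ) :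
    ∀ b ∈ T, y ^ k * b ^ s ^ k * (y ^ k)⁻¹ = b := by
  induction k with
  | zero => intro b _; simp
  | succ k ih =>
    intro b hb
    have h1 : y ^ (k + 1) * b ^ s ^ (k + 1) * (y ^ (k + 1))⁻¹ = y * (y ^ k * (b ^ s) ^ s ^ k * (y ^ k)⁻¹) * y⁻¹ := by
      rw [pow_succ' y k, pow_succ' s k, pow_mul]
      group
    rw [h1, ih _ (pow_mem hb s), h b hb]

theorem isReal_of_act {T : Subgroup G} {y : G} {s : ℕ} (h : ∀ b ∈ T, y * b ^ s * y⁻¹ = b) {k : ℕ} {x : G} (hx : x ∈ T)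
    (ho : orderOf x ∣ s ^ k + 1) : IsReal x := by
  refine ⟨y ^ k, ?_⟩
  have h1 := act_pow h k x hx
  have h2 : x ^ s ^ k = x⁻¹ := by
    refine eq_inv_of_mul_eq_one_left ?_
    rw [← pow_succ]
    exact orderOf_dvd_iff_pow_eq_one.1 ho
  rw [h2] at h1
  rw [← conj_inv] at h1
  exact inv_eq_iff_eq_inv.1 h1

/-- the Sylow `u`-subgroups of `G` lie in `T` -/
theorem sylow_le [Finite G] {T : Subgroup G} {u : ℕ} (hu : u.Prime) (hd : u ∣ Nat.card ↥T)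
    (hC : ∀ y ∈ T, orderOf y = u → Subgroup.centralizer ({y} : Set G) ≤ T) :
    ∃ P : Sylow u G, (P : Subgroup G) ≤ T := by
  have := Fact.mk hu
  obtain ⟨x, hx⟩ := exists_prime_orderOf_dvd_card' u hd
  have hxo : orderOf (x : G) = u := by rw [Subgroup.orderOf_coe, hx]
  have hp0 : IsPGroup u ↥(Subgroup.zpowers (x : G)) :=
    IsPGroup.of_card (n := 1) (by rw [Nat.card_zpowers, hxo, pow_one])
  obtain ⟨P, hP⟩ := hp0.exists_le_sylow
  refine ⟨P, ?_⟩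
  have hne : Nontrivial ↥(P : Subgroup G) := by
    refine (Subgroup.nontrivial_iff_ne_bot _).2 fun h0 => ?_
    have h1 : (x : G) ∈ (P : Subgroup G) := hP (Subgroup.mem_zpowers _)
    rw [h0, Subgroup.mem_bot] at h1
    rw [h1, orderOf_one] at hxo
    exact hu.one_lt.ne hxo
  have hcn : Nontrivial (Subgroup.center ↥(P : Subgroup G)) := P.2.center_nontrivial
  have hdc : u ∣ Nat.card ↥(Subgroup.center ↥(P : Subgroup G)) := by
    obtain ⟨n, hn0, hn⟩ := (IsPGroup.nontrivial_iff_card (P.2.to_subgroup _)).1 hcn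
    rw [hn]
    exact dvd_pow_self u hn0.ne'
  obtain ⟨z, hz⟩ := exists_prime_orderOf_dvd_card' u hdc
  have hzo : orderOf ((z : ↥(P : Subgroup G)) : G) = u := by
    rw [Subgroup.orderOf_coe, Subgroup.orderOf_coe, hz]
  have hzT : ((z : ↥(P : Subgroup G)) : G) ∈ T := by
    refine hC x x.2 hxo ?_
    rw [Subgroup.mem_centralizer_singleton_iff]
    have h1 := Subgroup.mem_center_iff.1 z.2 ⟨(x : G), hP (Subgroup.mem_zpowers _)⟩
    exact (congrArg Subtype.val h1).symm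
  intro g hg
  refine hC _ hzT hzo ?_
  rw [Subgroup.mem_centralizer_singleton_iff]
  exact congrArg Subtype.val (Subgroup.mem_center_iff.1 z.2 ⟨g, hg⟩)

/-- **A subgroup meeting all real classes has index prime to `u`.** -/
theorem not_dvd_index [Finite G] {T : Subgroup G} (hT : IsCyclic ↥T) {u : ℕ} (hu : u.Prime) (hd : u ∣ Nat.card ↥T)
    (hC : ∀ y ∈ T, orderOf y = u → Subgroup.centralizer ({y} : Set G) ≤ T)
    (hr : ∀ x ∈ T, ∀ a : ℕ, orderOf x = u ^ a → IsReal x)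
    {B : Subgroup G} (hB : ∀ x : G, IsReal x → ∃ g : G, g * x * g⁻¹ ∈ B) : ¬ u ∣ B.index := by
  have := Fact.mk hu
  obtain ⟨P, hP⟩ := sylow_le hu hd hC
  have hcy : IsCyclic ↥(P : Subgroup G) :=
    isCyclic_of_injective (Subgroup.inclusion hP) (Subgroup.inclusion_injective hP)
  obtain ⟨x, hx⟩ := hcy.exists_generator
  have hxo : orderOf (x : G) = Nat.card ↥(P : Subgroup G) := by
    rw [Subgroup.orderOf_coe]
    exact orderOf_eq_card_of_forall_mem_zpowers hx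
  obtain ⟨a, ha⟩ := IsPGroup.iff_card.1 P.2
  obtain ⟨g, hg⟩ := hB x (hr x (hP x.2) a (hxo.trans ha))
  have h1 : Nat.card ↥(P : Subgroup G) ∣ Nat.card ↥B := by
    rw [← hxo]
    have h2 : orderOf (g * (x : G) * g⁻¹) = orderOf (x : G) :=
      orderOf_injective (MulAut.conj g).toMonoidHom (MulAut.conj g).injective _
    rw [← h2, ← Subgroup.orderOf_mk _ hg]
    exact orderOf_dvd_natCard _
  intro h3
  have h4 : Nat.card ↥(P : Subgroup G) * u ∣ Nat.card G := by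
    rw [← B.card_mul_index]
    exact mul_dvd_mul h1 h3
  rw [← (P : Subgroup G).card_mul_index, mul_dvd_mul_iff_left Nat.card_pos.ne'] at h4
  exact P.not_dvd_index h4

end Abs

section Num

variable {q u : ℕ}

/-- the `u`-part of `A * B` divides `A` if `u` does not divide `B` -/
theorem pow_dvd_left {u a A B : ℕ} (hu : u.Prime) (h : u ^ a ∣ A * B) (hB : ¬ u ∣ B) : u ^ a ∣ A :=
  (Nat.Coprime.pow_left a ((Nat.Prime.coprime_iff_not_dvd hu).2 hB)).dvd_of_dvd_mul_right h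

theorem not_dvd_sub (h : Prim q 12 u) {e : ℕ} (he : ¬ 12 ∣ e) : ¬ u ∣ q ^ e - 1 := fun h1 => he ((h.dvd_iff e).1 h1)

theorem twelve_plus (h : Prim q 12 u) (hq : 1 ≤ q) {a : ℕ} (ha : u ^ a ∣ (q ^ 4 - q ^ 2 + 1) * (q ^ 2 + q + 1)) :
    u ^ a ∣ q ^ 6 + 1 := by
  have h1 : ¬ u ∣ q ^ 2 + q + 1 := by
    intro h2
    have h3 : q ^ 3 - 1 = (q - 1) * (q ^ 2 + q + 1) := by
      obtain ⟨m, rfl⟩ := Nat.exists_eq_add_of_le' hq
      rw [Nat.add_sub_cancel, Nat.sub_eq_of_eq_add]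
      ring
    have h4 : u ∣ q ^ 3 - 1 := h3 ▸ h2.mul_left _
    rw [h.dvd_iff] at h4
    norm_num at h4
  refine (pow_dvd_left h.prime ha h1).trans ⟨q ^ 2 + 1, ?_⟩
  have h5 : q ^ 2 ≤ q ^ 4 := Nat.pow_le_pow_right hq (by norm_num)
  zify [h5]
  ring

theorem twelve_minus (h : Prim q 12 u) (hq : 1 ≤ q) {a : ℕ} (ha : u ^ a ∣ (q ^ 4 - q ^ 2 + 1) * (q ^ 2 - q + 1)) :
    u ^ a ∣ q ^ 6 + 1 := by
  have hle : q ≤ q ^ 2 := Nat.le_self_pow (by norm_num) q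
  have h1 : ¬ u ∣ q ^ 2 - q + 1 := by
    intro h2
    have h3 : q ^ 6 - 1 = (q ^ 3 - 1) * (q + 1) * (q ^ 2 - q + 1) := by
      have h4 : 1 ≤ q ^ 3 := Nat.one_le_pow _ _ hq
      have h5 : 1 ≤ q ^ 6 := Nat.one_le_pow _ _ hq
      zify [h4, h5, hle]
      ring
    have h4 : u ∣ q ^ 6 - 1 := h3 ▸ h2.mul_left _
    rw [h.dvd_iff] at h4
    norm_num at h4
  refine (pow_dvd_left h.prime ha h1).trans ⟨q ^ 2 + 1, ?_⟩
  have h5 : q ^ 2 ≤ q ^ 4 := Nat.pow_le_pow_right hq (by norm_num)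
  zify [h5]
  ring

theorem eight_pow (h : Prim q 8 u) (hq : 1 ≤ q) {a : ℕ} (ha : u ^ a ∣ (q ^ 4 + 1) * (q ^ 2 - 1)) : u ^ a ∣ q ^ 4 + 1 := by
  refine pow_dvd_left h.prime ha fun h2 => ?_
  rw [h.dvd_iff] at h2
  norm_num at h2

/-- odd powers of a number congruent to `-1` -/
theorem dvd_odd {m x : ℕ} (h : m ∣ x + 1) {k : ℕ} (hk : Odd k) : m ∣ x ^ k + 1 :=
  h.trans (by simpa using hk.nat_add_dvd_pow_add_pow x 1)

theorem odd_gcd3 {n : ℕ} (h : n = 1 ∨ n = 3) : Odd n := by rcases h with rfl | rfl <;> decide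

end Num

section Rows

variable {F : Type u} [Field F] [Fintype F] {q : ℕ}

theorem ord_dvd {G : Type*} [Group G] {T : Subgroup G} {N : ℕ} (h : Nat.card ↥T ∣ N) {x : G} (hx : x ∈ T) {u a : ℕ}
    (hxo : orderOf x = u ^ a) : u ^ a ∣ N := by
  rw [← hxo, ← Subgroup.orderOf_mk x hx]
  exact (orderOf_dvd_natCard _).trans h

/-- **`E₆(q)`, class 12.** -/
theorem off_e6_12 (hq : Fintype.card F = q) {B : Subgroup ↥(chevE6.group F)}
    (hB : ∀ x : ↥(chevE6.group F), IsReal x → ∃ g : ↥(chevE6.group F), g * x * g⁻¹ ∈ B) {r : ℕ} (h : Prim q 12 r) :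
    ¬ r ∣ B.index := by
  have := TwT.finite_W6
  have hq2 : 2 ≤ q := by rw [← hq]; exact Fintype.one_lt_card
  have hle : q ^ 2 ≤ q ^ 4 := Nat.pow_le_pow_right (by omega) (by norm_num)
  have hN : ((q ^ 4 - q ^ 2 + 1 : ℕ) : ℤ) = 1 - (q : ℤ) ^ 2 + (q : ℤ) ^ 4 := by push_cast [Nat.cast_sub hle]; ring
  have hM : (((q ^ 4 - q ^ 2 + 1) * (q ^ 2 + q + 1) : ℕ) : ℤ) = 1 + (q : ℤ) - (q : ℤ) ^ 3 + (q : ℤ) ^ 5 +
      (q : ℤ) ^ 6 := by
    push_cast [Nat.cast_sub hle]; ring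
  have hrN := phi12 h (by omega) hN
  have hg := prim_gt h (by omega)
  obtain ⟨T, h1, h2, h3, h4, h5⟩ := UntwT.untw_T typeE6 CoxeterMatrix.E₆.toCoxeterSystem (by norm_num) hq
    TorusChar.invC_E6 (by norm_num) DataE6.hA DataE6.chainOK DataE6.cycOK DataE6.rootOK
    (N := (q ^ 4 - q ^ 2 + 1) * (q ^ 2 + q + 1)) (by rw [DataE6.fN_eq, hM])
    (UntwData.coprime_of_eq (a := 1 - (q : ℤ) ^ 2 + (q : ℤ) ^ 4 + (q : ℤ) ^ 5) (by rw [hM]; ring)) (d := 3) (Or.inl rfl)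
  have hW : ¬ r ∣ Nat.card CoxeterMatrix.E₆.Group := not_dvd_W_E6 h.prime (by omega) (by omega) (by omega)
  have hG : ∀ s, ¬ (r : ℤ) ∣ Gq DataE6.B (q : ℤ) (DataE6.R s) := fun s hs => by
    rcases DataE6.dvd_of_G (cast_dvd hN hrN) s hs with h5 | h5
    · exact not_one h.prime h5
    · exact not_prime h.prime Nat.prime_two (by omega) h5
  obtain ⟨y, hy⟩ := h5 r h.prime (hrN.mul_right _) hW hG
  refine not_dvd_index h1 h.prime (dvd_of_dvd_mul h.prime (hrN.mul_right _)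
    (fun h3 => by have := Nat.le_of_dvd (by norm_num) h3; omega) h3) (h4 r h.prime hW hG) (fun x hx a hxa => ?_) hB
  refine isReal_of_act hy (k := 2) hx ?_
  rw [hxa, ← pow_mul]
  exact twelve_plus h (by omega) (ord_dvd h2 hx hxa)

/-- **`E₆(q)`, class 8.** -/
theorem off_e6_8 (hq : Fintype.card F = q) {B : Subgroup ↥(chevE6.group F)}
    (hB : ∀ x : ↥(chevE6.group F), IsReal x → ∃ g : ↥(chevE6.group F), g * x * g⁻¹ ∈ B) {r : ℕ} (h : Prim q 8 r) :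
    ¬ r ∣ B.index := by
  have := TwT.finite_W6
  have hq2 : 2 ≤ q := by rw [← hq]; exact Fintype.one_lt_card
  have hle : 1 ≤ q ^ 2 := Nat.one_le_pow _ _ (by omega)
  have hN : ((q ^ 4 + 1 : ℕ) : ℤ) = 1 + (q : ℤ) ^ 4 := by push_cast; ring
  have hM : (((q ^ 4 + 1) * (q ^ 2 - 1) : ℕ) : ℤ) = -1 + (q : ℤ) ^ 2 - (q : ℤ) ^ 4 + (q : ℤ) ^ 6 := by
    push_cast [Nat.cast_sub hle]; ring
  have hrN := phi8 h (by omega) hN
  have hg := prim_gt h (by omega)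
  obtain ⟨T, h1, h2, h3, h4, h5⟩ := UntwT.untw_T typeE6 CoxeterMatrix.E₆.toCoxeterSystem (by norm_num) hq
    TorusChar.invC_E6 (by norm_num) DataE6e.hA DataE6e.chainOK DataE6e.cycOK DataE6e.rootOK
    (N := (q ^ 4 + 1) * (q ^ 2 - 1)) (by rw [DataE6e.fN_eq, hM])
    (coprime_of_neg (a := (q : ℤ) - (q : ℤ) ^ 3 + (q : ℤ) ^ 5) (by rw [hM]; ring)) (d := 3) (Or.inl rfl)
  have hW : ¬ r ∣ Nat.card CoxeterMatrix.E₆.Group := not_dvd_W_E6 h.prime (by omega) (by omega) (by omega)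
  have hG : ∀ s, ¬ (r : ℤ) ∣ Gq DataE6e.B (q : ℤ) (DataE6e.R s) := fun s hs => by
    rcases DataE6e.dvd_of_G (cast_dvd hN hrN) s hs with h5 | h5
    · exact not_one h.prime h5
    · exact not_prime h.prime Nat.prime_two (by omega) h5
  obtain ⟨y, hy⟩ := h5 r h.prime (hrN.mul_right _) hW hG
  refine not_dvd_index h1 h.prime (dvd_of_dvd_mul h.prime (hrN.mul_right _)
    (fun h3 => by have := Nat.le_of_dvd (by norm_num) h3; omega) h3) (h4 r h.prime hW hG) (fun x hx a hxa => ?_) hB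
  refine isReal_of_act hy (k := 4) hx ?_
  rw [hxa, ← pow_mul, show 3 * 4 = 4 * 3 by norm_num, pow_mul]
  exact dvd_odd (eight_pow h (by omega) (ord_dvd h2 hx hxa)) (by decide)

theorem gcd_cases {n : ℕ} : Nat.gcd 3 n = 1 ∨ Nat.gcd 3 n = 3 := (Nat.dvd_prime Nat.prime_three).1 (Nat.gcd_dvd_left 3 n)

/-- **`²E₆(q)`, class 12.** -/
theorem off_te6_12 (hq : IsPrimePow q) (hK : Fintype.card F = q ^ 2) {B : Subgroup ↥(twistedE6 F q)}
    (hB : ∀ x : ↥(twistedE6 F q), IsReal x → ∃ g : ↥(twistedE6 F q), g * x * g⁻¹ ∈ B) {r : ℕ} (h : Prim q 12 r) :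
    ¬ r ∣ B.index := by
  have hq2 : 2 ≤ q := hq.two_le
  have hle : q ^ 2 ≤ q ^ 4 := Nat.pow_le_pow_right (by omega) (by norm_num)
  have hle' : q ≤ q ^ 2 := by nlinarith [hq.two_le]
  have hN : ((q ^ 4 - q ^ 2 + 1 : ℕ) : ℤ) = 1 - (q : ℤ) ^ 2 + (q : ℤ) ^ 4 := by push_cast [Nat.cast_sub hle]; ring
  have hM : (((q ^ 4 - q ^ 2 + 1) * (q ^ 2 - q + 1) : ℕ) : ℤ) = 1 - (q : ℤ) + (q : ℤ) ^ 3 - (q : ℤ) ^ 5 +
      (q : ℤ) ^ 6 := by
    push_cast [Nat.cast_sub hle, Nat.cast_sub hle']; ring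
  have hrN := phi12 h (by omega) hN
  have hg := prim_gt h (by omega)
  obtain ⟨T, h1, h2, h3, h4, h5⟩ := TwT.flip_T hq hK DataTE6c.hA DataTE6c.chainOK DataTE6c.hd_pi DataTE6c.cycOK
    DataTE6c.rootOK DataTE6c.chain2OK DataTE6c.hd2_eq (N := (q ^ 4 - q ^ 2 + 1) * (q ^ 2 - q + 1))
    (by rw [DataTE6c.fN_eq, hM])
    (UntwData.coprime_of_eq (a := -1 + (q : ℤ) ^ 2 - (q : ℤ) ^ 4 + (q : ℤ) ^ 5) (by rw [hM]; ring))
  have hW : ¬ r ∣ Nat.card CoxeterMatrix.E₆.Group := not_dvd_W_E6 h.prime (by omega) (by omega) (by omega)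
  have hG : ∀ s, ¬ (r : ℤ) ∣ Gq DataTE6c.B (q : ℤ) (DataTE6c.R s) := fun s hs => by
    rcases DataTE6c.dvd_of_G (cast_dvd hN hrN) s hs with h5 | h5
    · exact not_one h.prime h5
    · exact not_prime h.prime Nat.prime_two (by omega) h5
  obtain ⟨y, hy⟩ := h5 r h.prime (hrN.mul_right _) hW hG
  refine not_dvd_index h1 h.prime (dvd_of_dvd_mul h.prime (hrN.mul_right _)
    (not_dvd_gcd3 h.prime (by omega)) h3) (h4 r h.prime hW hG) (fun x hx a hxa => ?_) hB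
  have h6 := twelve_minus h (by omega) (ord_dvd h2 hx hxa)
  refine isReal_of_act hy (k := 3) hx ?_
  rw [hxa, ← pow_mul, mul_comm, pow_mul, ← pow_mul q 2 3]
  exact dvd_odd h6 (odd_gcd3 gcd_cases)

/-- **`²E₆(q)`, class 8.** -/
theorem off_te6_8 (hq : IsPrimePow q) (hK : Fintype.card F = q ^ 2) {B : Subgroup ↥(twistedE6 F q)}
    (hB : ∀ x : ↥(twistedE6 F q), IsReal x → ∃ g : ↥(twistedE6 F q), g * x * g⁻¹ ∈ B) {r : ℕ} (h : Prim q 8 r) :
    ¬ r ∣ B.index := by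
  have hq2 : 2 ≤ q := hq.two_le
  have hle : 1 ≤ q ^ 2 := Nat.one_le_pow _ _ (by omega)
  have hN : ((q ^ 4 + 1 : ℕ) : ℤ) = 1 + (q : ℤ) ^ 4 := by push_cast; ring
  have hM : (((q ^ 4 + 1) * (q ^ 2 - 1) : ℕ) : ℤ) = -1 + (q : ℤ) ^ 2 - (q : ℤ) ^ 4 + (q : ℤ) ^ 6 := by
    push_cast [Nat.cast_sub hle]; ring
  have hrN := phi8 h (by omega) hN
  have hg := prim_gt h (by omega)
  obtain ⟨T, h1, h2, h3, h4, h5⟩ := TwT.flip_T hq hK DataTE6e.hA DataTE6e.chainOK DataTE6e.hd_pi DataTE6e.cycOK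
    DataTE6e.rootOK DataTE6e.chain2OK DataTE6e.hd2_eq (N := (q ^ 4 + 1) * (q ^ 2 - 1)) (by rw [DataTE6e.fN_eq, hM])
    (coprime_of_neg (a := (q : ℤ) - (q : ℤ) ^ 3 + (q : ℤ) ^ 5) (by rw [hM]; ring))
  have hW : ¬ r ∣ Nat.card CoxeterMatrix.E₆.Group := not_dvd_W_E6 h.prime (by omega) (by omega) (by omega)
  have hG : ∀ s, ¬ (r : ℤ) ∣ Gq DataTE6e.B (q : ℤ) (DataTE6e.R s) := fun s hs => by
    rcases DataTE6e.dvd_of_G (cast_dvd hN hrN) s hs with h5 | h5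
    · exact not_one h.prime h5
    · exact not_prime h.prime Nat.prime_two (by omega) h5
  obtain ⟨y, hy⟩ := h5 r h.prime (hrN.mul_right _) hW hG
  refine not_dvd_index h1 h.prime (dvd_of_dvd_mul h.prime (hrN.mul_right _)
    (not_dvd_gcd3 h.prime (by omega)) h3) (h4 r h.prime hW hG) (fun x hx a hxa => ?_) hB
  have h6 := eight_pow h (by omega) (ord_dvd h2 hx hxa)
  refine isReal_of_act hy (k := 2) hx ?_
  rw [hxa, ← pow_mul, mul_comm, pow_mul, ← pow_mul q 2 2]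
  exact dvd_odd h6 (odd_gcd3 gcd_cases)

end Rows

end Cfsg.Agent.H190.Odd
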