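import Cfsg.Agent.H190.Odd.StRange
import Cfsg.Agent.H190.Exc.CycE6
import Cfsg.Agent.H501.TwReal
import Cfsg.Agent.H150.TorE7

/-!
# The exact orders of the tori of class `12` in `E₆(q)`, `²E₆(q)`

`not_dvd_e6`, `not_dvd_te6` : the centralisers of the elements of primitive prime order of class `12` have order prime to
`3` if `3 ∣ q - 1`, `3 ∣ q + 1`.
-/

set_option autoImplicit false
set_option linter.unusedSectionVars false

namespace Cfsg.Agent.H190.Odd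

open CoxeterSystem Cfsg Cfsg.Lie Cfsg.Lie.ChevalleyDatum
open Cfsg.Agent.ChevalleyStructure Cfsg.Agent.ChevalleyStructure.Elts Cfsg.Agent.ChevalleyStructure.CoxeterGeom
  Cfsg.Agent.ChevalleyStructure.CoxeterGeomTypes Cfsg.Agent.ChevalleyStructure.NPerm
open Cfsg.Agent.Tits.Roots Cfsg.Agent.Tits.Core Cfsg.Agent.Nodes Cfsg.Agent.Nodes.Reps Cfsg.Agent.Nodes.BNOf
  Cfsg.Agent.Nodes.RGDChev Cfsg.Agent.Nodes.Bruhat Cfsg.Agent.Nodes.SubComb Cfsg.Agent.Nodes.Coroot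
open Cfsg.Agent.KFacts.RgdField Cfsg.Agent.KFacts.RgdChevCoord Cfsg.Agent.BpExc.TorCent Cfsg.Agent.BpExc.TorChev
open Cfsg.Agent.GpExc.Field Cfsg.Agent.BpExc.Tow Cfsg.Agent.BpExc.TowChev Cfsg.Agent.BpExc.Fr
  Cfsg.Agent.BpExc.LangFr Cfsg.Agent.LangThm Cfsg.Agent.BpExc Cfsg.Agent.H129 Cfsg.Agent.H129.TorusChar
  Cfsg.Agent.H129.TorusCent
  Cfsg.Agent.H129.TorusTw Cfsg.Agent.H129.TorusMain Cfsg.Agent.H129.TorAct Cfsg.Agent.H129.TorusUntw
  Cfsg.Agent.H129.WData Cfsg.Agent.H129.UntwTwo Cfsg.Agent.H129.RealT Cfsg.Agent.H129.CycT Cfsg.Agent.H129.StCover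
open Cfsg.Agent.ChevalleyStructure.StTorus (eval_eq_one)
open Cfsg.Agent.ChevalleyStructure.TwE6Basic (sg rho rho_rho)
open Cfsg.Agent.H129.TwE6Fr (tau embT flip6 coe_tau tw_le)
open Cfsg.Agent.H436 (Prim)

universe u

section Inv

variable {D : ChevalleyDatum} {l : ℕ} {M : CoxeterMatrix (Fin l)} {hp : IsType D l M} {k : Type u} [Field k]
  {W : Type*} [Group W] {cs : CoxeterSystem M W} {p e : ℕ} [Fact p.Prime] [CharP k p] {σ : MulAut ↥(D.group k)}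
  {g : (Fin l → ℤ) ≃+ (Fin l → ℤ)}

/-- an element of order `3` inverted by the twisted Frobenius automorphism is trivial -/
theorem eq_one_of_inv [IsAlgClosed k] (hl : 0 < l) (hk : LocFin k) {hN : NSys M (TT D k) (nc hp k)} (hσ : IsFrob p e σ)
    (F : Fr cs hp.isCartan (TT D k) (XX D l k) σ g) {w : W} {n : ↥(D.group k)} (hn : Rp cs hN w n)
    {V B : Fin l → Fin l → ℤ} {c : Fin l → ℤ} (h : Cyc l (theta hp cs w g) V B c) (hf1 : fN c 1 = 1)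
    (h3 : 3 ∣ p ^ e + 1) {v : ↥(D.group k)} (hv : v ∈ TT D k) (hv3 : v ^ 3 = 1) (hinv : n * σ v * n⁻¹ = v⁻¹) :
    v = 1 := by
  have hmc := isMC_cX hp hv
  have h1 : ∀ x, cX hp v x ^ (p ^ e + 1) = 1 := by
    intro x
    obtain ⟨m, hm⟩ := h3
    rw [hm, pow_mul, ← cX_pow hp hv, hv3, cX_one, one_pow]
  have hθ : ∀ x, cX hp v (theta hp cs w g x) = cX hp v x ^ 1 := by
    intro x
    have h2 := cX_tau hp cs hk hσ F hn hv x
    rw [hinv] at h2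
    have h4 := cX_mul hp (inv_mem hv) hv (theta hp cs w g x)
    rw [inv_mul_cancel, cX_one, h2] at h4
    have h5 := h1 x
    rw [pow_succ] at h5
    rw [pow_one]
    exact mul_left_cancel₀ (pow_ne_zero _ (hmc.ne_zero x)) (h4.symm.trans h5.symm)
  have h6 := h.zpow_fN hmc hl (q := 1) hθ
  rw [Nat.cast_one, hf1, zpow_one] at h6
  refine cX_inj hp hv (one_mem _) fun i => ?_
  rw [h.eq_zpow hmc hl (q := 1) hθ, h6, one_zpow, cX_one]

/-- the same for `3`-elements -/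
theorem eq_one_of_inv' [IsAlgClosed k] (hl : 0 < l) (hk : LocFin k) {hN : NSys M (TT D k) (nc hp k)} (hσ : IsFrob p e σ)
    (F : Fr cs hp.isCartan (TT D k) (XX D l k) σ g) {w : W} {n : ↥(D.group k)} (hn : Rp cs hN w n)
    {V B : Fin l → Fin l → ℤ} {c : Fin l → ℤ} (h : Cyc l (theta hp cs w g) V B c) (hf1 : fN c 1 = 1)
    (h3 : 3 ∣ p ^ e + 1) {v : ↥(D.group k)} (hv : v ∈ TT D k) {a : ℕ} (hv3 : v ^ 3 ^ a = 1)
    (hinv : n * σ v * n⁻¹ = v⁻¹) : v = 1 := by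
  induction a with
  | zero => simpa using hv3
  | succ a ih =>
    refine ih (eq_one_of_inv hl hk hσ F hn h hf1 h3 (pow_mem hv _) (by rw [← pow_mul, ← pow_succ]; exact hv3) ?_)
    rw [map_pow, ← conj_pow, hinv, inv_pow]

end Inv

section Tw

variable {k : Type u} [Field k] [IsAlgClosed k] {p e : ℕ} [Fact p.Prime] [CharP k p]

/-- the square of the twisted Frobenius automorphism -/
theorem tau_tau (g : ↥(chevE6.group k)) : tau k p e (tau k p e g) = phi chevE6 k p (e + e) g := by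
  have h1 : chevE6.group k ≤ MonoidHom.eqLocus
      ((sg (iterateFrobenius k p e)).comp (sg (iterateFrobenius k p e))) (glMap chevE6 (iterateFrobenius k p (e + e))) := by
    rw [group_le_iff RGDTwE6.hp.inList]
    intro r hr t
    show ((sg (iterateFrobenius k p e)).comp (sg (iterateFrobenius k p e))) (xG RGDTwE6.hp.inList r t) = _
    rw [BpExc.EmbInst.sg_sq (iterateFrobenius k p e) r hr t, glMap_xG]
    congr 1
    rw [RingHom.comp_apply, iterateFrobenius_def, iterateFrobenius_def, iterateFrobenius_def, ← pow_mul, ← pow_add]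
  apply Subtype.ext
  rw [coe_tau, coe_tau, coe_phi]
  exact h1 g.2

/-- **The generator of the twisted torus does not lie in the image of `²E₆(q)`**, `3 ∣ q + 1`. -/
theorem not_mem_twisted (hk : LocFin k) {F : Type u} [Field F] [Fintype F] (f : F →+* k) {q : ℕ} (hqe : q = p ^ e)
    (hF : Fintype.card F = q ^ 2) (h3 : 3 ∣ q + 1)
    {hN : NSys CoxeterMatrix.E₆ (TT chevE6 k) (nc RGDTwE6.hp k)} {w : CoxeterMatrix.E₆.Group}
    {V B : Fin 6 → Fin 6 → ℤ} {c : Fin 6 → ℤ}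
    (hc : Cyc 6 (theta RGDTwE6.hp CoxeterMatrix.E₆.toCoxeterSystem w flip6) V B c) (hf1 : fN c 1 = 1)
    {Q : ℤ} {N : ℕ} {n z t : ↥(chevE6.group k)} {u : k}
    (X : TD RGDTwE6.hp CoxeterMatrix.E₆.toCoxeterSystem hN w (tau k p e) B Q N n z t u) :
    z * t * z⁻¹ ∉ (emb RGDTwE6.hp.inList f).range := by
  have := TwT.finite_W6
  intro hmem
  obtain ⟨Φ, hΦ⟩ := PhiE.isPhi_E6 k
  have hpF : p.Prime := Fact.out
  have hq2 : 2 ≤ q := by
    have h1 := Fintype.one_lt_card (α := F)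
    rw [hF] at h1
    by_contra hcon
    have h2 : q = 0 ∨ q = 1 := by omega
    rcases h2 with rfl | rfl <;> norm_num at h1
  have hF' : Fintype.card F = p ^ (e + e) := by rw [hF, hqe, ← pow_mul, mul_two]
  have hsq : q ^ 2 - 1 = (q + 1) * (q - 1) := by
    have := Nat.sq_sub_sq q 1
    simpa using this
  have hdq : 3 ∣ p ^ (e + e) - 1 := by
    rw [← hF', hF, hsq]
    exact h3.mul_right _
  have he : e ≠ 0 := by
    rintro rfl
    rw [pow_zero] at hqe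
    omega
  have hp3 : ¬ p ∣ 3 := by
    intro h
    have h1 : p = 3 := (Nat.prime_dvd_prime_iff_eq hpF Nat.prime_three).1 h
    have h2 : 3 ∣ q := by rw [hqe, h1]; exact dvd_pow_self 3 he
    have h4 := (Nat.dvd_add_right h2).1 h3
    norm_num at h4
  -- the centre
  have hdk : ((3 : ℕ) : k) ≠ 0 := by
    rw [Ne, CharP.cast_eq_zero_iff k p]
    exact hp3
  have : NeZero ((3 : ℕ) : k) := ⟨hdk⟩
  obtain ⟨ζ, hζ⟩ := HasEnoughRootsOfUnity.exists_primitiveRoot k 3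
  have hζ0 : ζ ≠ 0 := hζ.ne_zero (by norm_num)
  set ω : kˣ := Units.mk0 ζ hζ0 with hω
  have hωd : ω ^ 3 = 1 := Units.ext (by rw [Units.val_pow_eq_pow_val]; exact hζ.pow_eq_one)
  obtain ⟨kv, hk0, hkv⟩ : ∃ kv : Fin chevE6.rank → ℤ, kv ⟨0, by decide⟩ = 1 ∧
      ∀ s < chevE6.nroots, (3 : ℤ) ∣ ∑ i : Fin chevE6.rank, kv i * chevE6.cartan i s :=
    ⟨![1, 0, 2, 0, 1, 2], rfl, by decide +kernel⟩
  obtain ⟨Bc, hBc⟩ : ∃ Bc : Fin chevE6.rank → Fin chevE6.rank → ℤ, ∀ i m : Fin chevE6.rank,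
      ∑ j : Fin chevE6.rank, chevE6.cartan i (chevE6.simple j) * Bc j m = if i = m then ((3 : ℕ) : ℤ) else 0 :=
    ⟨![![4, 3, 5, 6, 4, 2], ![3, 6, 6, 9, 6, 3], ![5, 6, 10, 12, 8, 4],
        ![6, 9, 12, 18, 12, 6], ![4, 6, 8, 12, 10, 5], ![2, 3, 4, 6, 5, 4]], by decide +kernel⟩
  have hc0 : ∀ s < chevE6.nroots, ∏ i : Fin chevE6.rank, (ω ^ kv i) ^ chevE6.cartan i s = 1 := by
    intro s hs
    obtain ⟨a, ha⟩ := hkv s hs
    rw [Finset.prod_congr rfl fun i _ => (zpow_mul ω (kv i) (chevE6.cartan i s)).symm,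
      prod_zpow_sum, ha, zpow_mul]
    have e3 : ω ^ (3 : ℤ) = 1 := by exact_mod_cast hωd
    rw [e3, one_zpow]
  have hc1 : (fun i => ω ^ kv i : Fin chevE6.rank → kˣ) ≠ 1 := by
    intro h1
    have h2 := congrFun h1 ⟨0, by decide⟩
    simp only [hk0, zpow_one, Pi.one_apply] at h2
    have h3 : ζ = 1 := congrArg Units.val h2
    rw [h3] at hζ
    exact absurd (hζ.eq_orderOf.trans orderOf_one) (by norm_num)
  have hfix : ∀ b : Fin chevE6.rank → kˣ, (∀ s < chevE6.nroots, ∏ i : Fin chevE6.rank, b i ^ chevE6.cartan i s = 1) →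
      ∀ i, b i ^ p ^ (e + e) = b i := by
    intro b hb i
    have h1 := eval_eq_one (fun i j : Fin chevE6.rank => chevE6.cartan i (chevE6.simple j)) (fun j => Bc j i)
      (fun m => if m = i then ((3 : ℕ) : ℤ) else 0) (fun m => hBc m i) b
      (fun j => hb (chevE6.simple j) (simple_lt RGDTwE6.hp.inList j.2))
    rw [Finset.prod_eq_single i] at h1
    · rw [if_pos rfl, zpow_natCast] at h1
      obtain ⟨a, ha⟩ := hdq
      have h2 : p ^ (e + e) = 3 * a + 1 := by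
        have : 0 < p ^ (e + e) := Nat.pow_pos hpF.pos
        omega
      rw [h2, pow_succ, pow_mul, h1, one_pow, one_mul]
    · intro j _ hj; rw [if_neg hj, zpow_zero]
    · intro hi; exact absurd (Finset.mem_univ _) hi
  -- the square of the twisted Frobenius map
  set τ := tau k p e with hτ
  have hFr := TwE6Fr.fr_tau (k := k) (p := p) (e := e) CoxeterMatrix.E₆.toCoxeterSystem
  have hτz : τ z = z * n := by rw [X.hz]; group
  have hn2 : n * τ n = z⁻¹ * phi chevE6 k p (e + e) z := by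
    rw [← tau_tau, ← hτ, hτz, map_mul, hτz]
    group
  have hnorm : ∀ s ∈ TT chevE6 k, (n * τ n) * s * (n * τ n)⁻¹ ∈ TT chevE6 k := by
    intro s hs
    obtain ⟨r, hr⟩ := τ.surjective s
    have hr' : r ∈ TT chevE6 k := (hFr.tor r).1 (by rw [← hτ, hr]; exact hs)
    have e1 : (n * τ n) * s * (n * τ n)⁻¹ = n * τ (n * r * n⁻¹) * n⁻¹ := by
      rw [map_mul, map_mul, map_inv, hr]
      group
    rw [e1]
    exact tau_mem RGDTwE6.hp _ hFr X.hn ((Subgroup.mem_normalizer_iff.1 X.hn.mem_normalizer r).1 hr')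
  obtain ⟨w₂, hw₂⟩ := H501.TwReal.exists_rp_of_normalizer RGDTwE6.hp CoxeterMatrix.E₆.toCoxeterSystem hk p hN
    TorusChar.invC_E6 (by norm_num) hnorm
  obtain ⟨s, hs, hns, hzs⟩ := exists_not_mem_range RGDTwE6.hp CoxeterMatrix.E₆.toCoxeterSystem hΦ f hF' hc0 hc1 hfix
    hw₂ hn2
  apply hzs
  -- `θ = n τ(·) n⁻¹`
  have hθθ : n * τ (n * τ s * n⁻¹) * n⁻¹ = s := by
    rw [map_mul, map_mul, map_inv, hτ, tau_tau, ← hτ]
    have e1 : n * (τ n * phi chevE6 k p (e + e) s * (τ n)⁻¹) * n⁻¹ =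
        (n * τ n) * phi chevE6 k p (e + e) s * (n * τ n)⁻¹ := by group
    rw [e1, hns]
  have hcube : z * s ^ 3 * z⁻¹ ∈ (emb RGDTwE6.hp.inList f).range := by
    rw [← conj_pow]
    refine fix_pow_range RGDTwE6.hp CoxeterMatrix.E₆.toCoxeterSystem f hF' TorusChar.invC_E6 (by norm_num) ?_
    have e1 : phi chevE6 k p (e + e) z = z * (n * τ n) := by rw [hn2]; group
    rw [map_mul, map_mul, map_inv, e1]
    calc z * (n * τ n) * phi chevE6 k p (e + e) s * (z * (n * τ n))⁻¹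
        = z * ((n * τ n) * phi chevE6 k p (e + e) s * (n * τ n)⁻¹) * z⁻¹ := by group
      _ = z * s * z⁻¹ := by rw [hns]
  obtain ⟨m, hm0, hm⟩ : ∃ m, 0 < m ∧ s ^ m = 1 := by
    obtain ⟨x, hx⟩ := hcube
    obtain ⟨m, hm0, hm⟩ := (isOfFinOrder_iff_pow_eq_one.1 (isOfFinOrder_of_finite x))
    refine ⟨3 * m, by omega, ?_⟩
    have h1 : (z * s ^ 3 * z⁻¹) ^ m = 1 := by rw [← hx, ← map_pow, hm, map_one]
    rw [conj_pow, ← pow_mul, mul_inv_eq_one, mul_eq_left] at h1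
    exact h1
  obtain ⟨a, m', hm', rfl⟩ := Nat.exists_eq_pow_mul_and_not_dvd hm0.ne' 3 (by norm_num)
  have hgcd : Nat.Coprime m' 3 := ((Nat.Prime.coprime_iff_not_dvd Nat.prime_three).2 hm').symm
  have hsm : s ^ m' ∈ TT chevE6 k := pow_mem hs _
  have hθm : n * τ (n * τ (s ^ m') * n⁻¹) * n⁻¹ = s ^ m' := by
    have e1 : n * τ (s ^ m') * n⁻¹ = (n * τ s * n⁻¹) ^ m' := by rw [conj_pow, map_pow]
    rw [e1, map_pow, ← conj_pow, hθθ]
  have hθT : n * τ (s ^ m') * n⁻¹ ∈ TT chevE6 k := tau_mem RGDTwE6.hp _ hFr X.hn hsm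
  have hu : (n * τ (s ^ m') * n⁻¹) * (s ^ m')⁻¹ = 1 := by
    refine eq_one_of_inv' (by norm_num) hk TwE6Fr.isFrob_tau hFr X.hn hc hf1 (by rw [← hqe]; exact h3)
      (mul_mem hθT (inv_mem hsm)) (a := a) ?_ ?_
    · have hcm : Commute (n * τ (s ^ m') * n⁻¹) ((s ^ m')⁻¹) :=
        Cfsg.Agent.BpExc.TorChev.TT_comm RGDTwE6.hp _ hθT _ (inv_mem hsm)
      rw [hcm.mul_pow, conj_pow, ← map_pow, ← pow_mul, inv_pow, ← pow_mul, mul_comm m', hm, map_one]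
      group
    · rw [map_mul, map_inv, mul_inv_rev, inv_inv]
      calc n * (τ (n * τ (s ^ m') * n⁻¹) * (τ (s ^ m'))⁻¹) * n⁻¹
          = (n * τ (n * τ (s ^ m') * n⁻¹) * n⁻¹) * (n * τ (s ^ m') * n⁻¹)⁻¹ := by group
        _ = _ := by rw [hθm]
  have hfixm : n * τ (s ^ m') * n⁻¹ = s ^ m' := mul_inv_eq_one.1 hu
  obtain ⟨j, hj⟩ := X.hgen _ hsm hfixm
  have hj' : t ^ j = s ^ m' := hj
  have hr1 : z * s ^ m' * z⁻¹ ∈ (emb RGDTwE6.hp.inList f).range := by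
    rw [← hj', ← conj_zpow]
    exact zpow_mem hmem j
  have hb : (m' : ℤ) * m'.gcdA 3 + 3 * m'.gcdB 3 = 1 := by
    have := Nat.gcd_eq_gcd_ab m' 3
    rw [hgcd] at this
    exact_mod_cast this.symm
  have e1 : z * s * z⁻¹ = (z * s ^ m' * z⁻¹) ^ m'.gcdA 3 * (z * s ^ 3 * z⁻¹) ^ m'.gcdB 3 := by
    rw [conj_zpow, conj_zpow, ← zpow_natCast, ← zpow_natCast, ← zpow_mul, ← zpow_mul]
    have e2 : s = s ^ ((m' : ℤ) * m'.gcdA 3) * s ^ (((3 : ℕ) : ℤ) * m'.gcdB 3) := by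
      rw [← zpow_add]
      push_cast
      rw [hb, zpow_one]
    calc z * s * z⁻¹ = z * (s ^ ((m' : ℤ) * m'.gcdA 3) * s ^ (((3 : ℕ) : ℤ) * m'.gcdB 3)) * z⁻¹ := by rw [← e2]
      _ = _ := by group
  rw [e1]
  exact mul_mem (zpow_mem hr1 _) (zpow_mem hcube _)

/-- **The cyclic tori of `²E₆(q)`**, `3 ∣ q + 1`. -/
theorem flip_Td {K : Type u} [Field K] [Fintype K] {q : ℕ} (hq : IsPrimePow q) (hK : Fintype.card K = q ^ 2)
    (hd3 : 3 ∣ q + 1) {A : Mat 6} (hA : ∀ i j, A i j = cartanOf chevE6 6 i j)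
    {L : List (Fin 6 × Mat 6)} (hL : ChainOK A L) {Th : Mat 6}
    (hT : ∀ j, hd L ((![5, 1, 4, 3, 2, 0] : Fin 6 → Fin 6) j) = Th j)
    {V B : Mat 6} {c : Fin 6 → ℤ} (hcyc : CycOK 6 Th V B c) {m : ℕ} {R : Fin m → Fin 6 → ℤ}
    {prv dep : ℕ → ℕ} (hR : RootOK chevE6 6 Th R prv dep) {N : ℕ} (hfN : fN c (q : ℤ) = N)
    (hqN : q.Coprime N) (hf1 : fN c 1 = 1) :
    ∃ T : Subgroup ↥(twistedE6 K q), IsCyclic ↥T ∧ Nat.card ↥T ∣ N ∧ N ∣ 3 * Nat.card ↥T ∧ Nat.card ↥T ≠ N ∧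
      (∀ r : ℕ, r.Prime → ¬ r ∣ Nat.card CoxeterMatrix.E₆.Group → (∀ s, ¬ (r : ℤ) ∣ Gq B (q : ℤ) (R s)) →
        ∀ y ∈ T, orderOf y = r → Subgroup.centralizer {y} ≤ T) := by
  have := TwT.finite_W6
  obtain ⟨p, e', hpF, hpc, hpk, -, hpe, hk⟩ := exists_closure hK
  obtain ⟨p', e, hp', he, hqe'⟩ := id hq
  have hpp : p' = p := by
    have h1 : p' ∣ p ^ e' := by
      rw [← hpe, ← hqe']
      exact dvd_pow (dvd_pow_self p' he.ne') (by norm_num)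
    exact (Nat.prime_dvd_prime_iff_eq hp'.nat_prime hpF.out).1 (hp'.nat_prime.dvd_of_dvd_pow h1)
  subst hpp
  obtain rfl : q = p' ^ e := hqe'.symm
  have hpN : ¬ p' ∣ N := fun h1 => by
    have h2 : p' ∣ Nat.gcd (p' ^ e) N := Nat.dvd_gcd (dvd_pow_self p' he.ne') h1
    rw [hqN] at h2
    exact hpF.out.one_lt.ne' (Nat.dvd_one.1 h2)
  have hlin := TwT.lin_flip CoxeterMatrix.E₆.toCoxeterSystem hA hL hT
  have hc := cyc_of hlin hcyc
  obtain ⟨T, h1, h2, h3, h4, -, h6⟩ := exists_T (k := AlgebraicClosure K) (hp := RGDTwE6.hp)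
    (cs := CoxeterMatrix.E₆.toCoxeterSystem) (by norm_num) hk
    (hN := nsys_of_locFin RGDTwE6.hp CoxeterMatrix.E₆.toCoxeterSystem hk p') he TwE6Fr.isFrob_tau
    (TwE6Fr.fr_tau CoxeterMatrix.E₆.toCoxeterSystem) TorusChar.invC_E6 (by norm_num)
    (w := CoxeterMatrix.E₆.toCoxeterSystem.wordProd (L.map Prod.fst)) hc hfN hpN
    (e0 := TwE6Fr.embT (algebraMap K (AlgebraicClosure K)) hq hK) (TwE6Fr.embT_injective _ hq hK)
    (TwE6Fr.tau_embT _ rfl hq hK) (d := Nat.gcd 3 (p' ^ e + 1)) (fun y hy => TwE6Fr.tau_pow _ rfl hq hK hy)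
  have hgood : ∀ r : ℕ, r.Prime → r ∣ N → (∀ s, ¬ (r : ℤ) ∣ Gq B ((p' ^ e : ℕ) : ℤ) (R s)) →
      ∀ a, IsRoot CoxeterMatrix.E₆.toCoxeterSystem RGDTwE6.hp.isCartan a →
        ¬ (r : ℤ) ∣ Gq B ((p' ^ e : ℕ) : ℤ) a :=
    fun r hr hrN hG a ha => not_dvd_G RGDTwE6.hp CoxeterMatrix.E₆.toCoxeterSystem hlin hc hR hfN hr hrN hqN hG ha
  refine ⟨T, h1, h2, by rwa [Nat.gcd_eq_left hd3] at h3, h6 fun n z t u X hmem => ?_, ?_⟩
  · refine not_mem_twisted hk (algebraMap K (AlgebraicClosure K)) rfl hK hd3 hc hf1 X ?_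
    obtain ⟨x, hx⟩ := hmem
    exact ⟨Subgroup.inclusion (tw_le hq hK) x, hx⟩
  · intro r hr hrW hG y hy hyr
    have hrN : r ∣ N := by
      rw [← hyr]
      refine dvd_trans ?_ h2
      have := orderOf_dvd_natCard (⟨y, hy⟩ : ↥T)
      rwa [Subgroup.orderOf_mk] at this
    exact h4 r hr hrW (hgood r hr hrN hG) y hy hyr

end Tw

/-! ### the rows -/

section Rows

/-- the common end -/
theorem not_three_dvd {G : Type*} [Group G] [Finite G] {T : Subgroup G} (hT : IsCyclic ↥T) {N r : ℕ} (hr : r.Prime)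
    (hr3 : r ≠ 3) (hrN : r ∣ N) (h9 : ¬ 9 ∣ N) (hN0 : N ≠ 0) (h1 : Nat.card ↥T ∣ N) (h2 : N ∣ 3 * Nat.card ↥T)
    (h3 : Nat.card ↥T ≠ N) (hC : ∀ y ∈ T, orderOf y = r → Subgroup.centralizer {y} ≤ T) {x : G}
    (hx : orderOf x = r) : 3 * Nat.card ↥(Subgroup.centralizer ({x} : Set G)) ∣ N ∧
      ¬ 3 ∣ Nat.card ↥(Subgroup.centralizer ({x} : Set G)) := by
  have hrT : r ∣ Nat.card ↥T := (hr.dvd_mul.1 (hrN.trans h2)).resolve_left fun h =>
    hr3 ((Nat.prime_dvd_prime_iff_eq hr Nat.prime_three).1 h)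
  obtain ⟨f, hf⟩ := exists_hom hT hr hrT hC hx
  have h4 : Nat.card ↥(Subgroup.centralizer ({x} : Set G)) ∣ Nat.card ↥T := Subgroup.card_dvd_of_injective f hf.1
  have h5 : 3 * Nat.card ↥T ∣ N := by
    obtain ⟨m, hm⟩ := h1
    have h0 : 0 < Nat.card ↥T := Nat.card_pos
    have h6 : m ∣ 3 := by
      rw [hm, mul_comm 3] at h2
      exact Nat.dvd_of_mul_dvd_mul_left h0 h2
    rcases (Nat.dvd_prime Nat.prime_three).1 h6 with rfl | rfl
    · exact absurd (by rw [hm, mul_one]) h3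
    · rw [hm, mul_comm]
  refine ⟨(mul_dvd_mul_left 3 h4).trans h5, fun h => h9 ?_⟩
  exact (show 9 = 3 * 3 from rfl) ▸ (mul_dvd_mul_left 3 (h.trans h4)).trans h5

variable {F : Type u} [Field F] [Fintype F] {q : ℕ}

/-- **`E₆(q)`, class 12, `3 ∣ q - 1`.** -/
theorem exact_e6_12 (hq : Fintype.card F = q) (h3 : 3 ∣ q - 1) {r : ℕ} (h : Prim q 12 r) {x : ↥(chevE6.group F)}
    (hx : orderOf x = r) :
    3 * Nat.card ↥(Subgroup.centralizer ({x} : Set ↥(chevE6.group F))) ∣ (q ^ 4 - q ^ 2 + 1) * (q ^ 2 + q + 1) ∧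
      ¬ 3 ∣ Nat.card ↥(Subgroup.centralizer ({x} : Set ↥(chevE6.group F))) := by
  have := TwT.finite_W6
  have hq2 : 2 ≤ q := by rw [← hq]; exact Fintype.one_lt_card
  have hle : q ^ 2 ≤ q ^ 4 := Nat.pow_le_pow_right (by omega) (by norm_num)
  have hN : ((q ^ 4 - q ^ 2 + 1 : ℕ) : ℤ) = 1 - (q : ℤ) ^ 2 + (q : ℤ) ^ 4 := by push_cast [Nat.cast_sub hle]; ring
  have hM : (((q ^ 4 - q ^ 2 + 1) * (q ^ 2 + q + 1) : ℕ) : ℤ) = 1 + (q : ℤ) - (q : ℤ) ^ 3 + (q : ℤ) ^ 5 +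
      (q : ℤ) ^ 6 := by
    push_cast [Nat.cast_sub hle]; ring
  have hrN := Exc.phi12 h (by omega) hN
  have hg := Exc.prim_gt h (by omega)
  obtain ⟨T, h1, h2, h3', h4, h5⟩ := Cfsg.Agent.H150.untw_Td typeE6 CoxeterMatrix.E₆.toCoxeterSystem (by norm_num) hq
    Nat.prime_three TorusChar.invC_E6 h3 (PhiE.isPhi_E6 _) (kv := ![1, 0, 2, 0, 1, 2]) (i0 := ⟨0, by decide⟩) rfl
    (by decide +kernel)
    (Bc := ![![4, 3, 5, 6, 4, 2], ![3, 6, 6, 9, 6, 3], ![5, 6, 10, 12, 8, 4],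
      ![6, 9, 12, 18, 12, 6], ![4, 6, 8, 12, 10, 5], ![2, 3, 4, 6, 5, 4]]) (by decide +kernel)
    DataE6.hA DataE6.chainOK DataE6.cycOK DataE6.rootOK (N := (q ^ 4 - q ^ 2 + 1) * (q ^ 2 + q + 1))
    (by rw [DataE6.fN_eq, hM])
    (UntwData.coprime_of_eq (a := 1 - (q : ℤ) ^ 2 + (q : ℤ) ^ 4 + (q : ℤ) ^ 5) (by rw [hM]; ring))
  have hW : ¬ r ∣ Nat.card CoxeterMatrix.E₆.Group := not_dvd_W_E6 h.prime (by omega) (by omega) (by omega)
  have hG : ∀ s, ¬ (r : ℤ) ∣ Gq DataE6.B (q : ℤ) (DataE6.R s) := fun s hs => by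
    rcases DataE6.dvd_of_G (cast_dvd hN hrN) s hs with h5 | h5
    · exact not_one h.prime h5
    · exact not_prime h.prime Nat.prime_two (by omega) h5
  refine not_three_dvd h1 h.prime (by omega) (hrN.mul_right _) ?_ (by positivity) h2 h3' h4 (h5 r h.prime hW hG) hx
  intro h9
  have hz := zmod_of_dvd hM h9
  push_cast at hz
  have hq3 : (q : ZMod 3) = 1 := by
    have h7 := (ZMod.natCast_eq_zero_iff (q - 1) 3).2 h3
    rw [Nat.cast_sub (by omega), Nat.cast_one] at h7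
    exact sub_eq_zero.1 h7
  have key : ∀ y : ZMod 9, (ZMod.castHom (show 3 ∣ 9 by norm_num) (ZMod 3)) y = 1 →
      1 + y - y ^ 3 + y ^ 5 + y ^ 6 ≠ 0 := by decide
  exact key q (by rw [map_natCast]; exact hq3) hz

/-- **`²E₆(q)`, class 12, `3 ∣ q + 1`.** -/
theorem exact_te6_12 (hq : IsPrimePow q) (hK : Fintype.card F = q ^ 2) (h3 : 3 ∣ q + 1) {r : ℕ} (h : Prim q 12 r)
    {x : ↥(twistedE6 F q)} (hx : orderOf x = r) :
    3 * Nat.card ↥(Subgroup.centralizer ({x} : Set ↥(twistedE6 F q))) ∣ (q ^ 4 - q ^ 2 + 1) * (q ^ 2 - q + 1) ∧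
      ¬ 3 ∣ Nat.card ↥(Subgroup.centralizer ({x} : Set ↥(twistedE6 F q))) := by
  have hq2 : 2 ≤ q := hq.two_le
  have hle : q ^ 2 ≤ q ^ 4 := Nat.pow_le_pow_right (by omega) (by norm_num)
  have hle' : q ≤ q ^ 2 := by nlinarith [hq.two_le]
  have hN : ((q ^ 4 - q ^ 2 + 1 : ℕ) : ℤ) = 1 - (q : ℤ) ^ 2 + (q : ℤ) ^ 4 := by push_cast [Nat.cast_sub hle]; ring
  have hM : (((q ^ 4 - q ^ 2 + 1) * (q ^ 2 - q + 1) : ℕ) : ℤ) = 1 - (q : ℤ) + (q : ℤ) ^ 3 - (q : ℤ) ^ 5 +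
      (q : ℤ) ^ 6 := by
    push_cast [Nat.cast_sub hle, Nat.cast_sub hle']; ring
  have hrN := Exc.phi12 h (by omega) hN
  have hg := Exc.prim_gt h (by omega)
  obtain ⟨T, h1, h2, h3', h4, h5⟩ := flip_Td hq hK h3 DataTE6c.hA DataTE6c.chainOK DataTE6c.hd_pi DataTE6c.cycOK
    DataTE6c.rootOK (N := (q ^ 4 - q ^ 2 + 1) * (q ^ 2 - q + 1))
    (by rw [DataTE6c.fN_eq, hM])
    (UntwData.coprime_of_eq (a := -1 + (q : ℤ) ^ 2 - (q : ℤ) ^ 4 + (q : ℤ) ^ 5) (by rw [hM]; ring))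
    (by rw [DataTE6c.fN_eq]; norm_num)
  have hW : ¬ r ∣ Nat.card CoxeterMatrix.E₆.Group := not_dvd_W_E6 h.prime (by omega) (by omega) (by omega)
  have hG : ∀ s, ¬ (r : ℤ) ∣ Gq DataTE6c.B (q : ℤ) (DataTE6c.R s) := fun s hs => by
    rcases DataTE6c.dvd_of_G (cast_dvd hN hrN) s hs with h5 | h5
    · exact not_one h.prime h5
    · exact not_prime h.prime Nat.prime_two (by omega) h5
  refine not_three_dvd h1 h.prime (by omega) (hrN.mul_right _) ?_ (by positivity) h2 h3' h4 (h5 r h.prime hW hG) hx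
  intro h9
  have hz := zmod_of_dvd hM h9
  push_cast at hz
  have hq3 : (q : ZMod 3) = 2 := by
    have h7 := (ZMod.natCast_eq_zero_iff (q + 1) 3).2 h3
    push_cast at h7
    rw [eq_neg_of_add_eq_zero_left h7]
    decide
  have key : ∀ y : ZMod 9, (ZMod.castHom (show 3 ∣ 9 by norm_num) (ZMod 3)) y = 2 →
      1 - y + y ^ 3 - y ^ 5 + y ^ 6 ≠ 0 := by decide
  exact key q (by rw [map_natCast]; exact hq3) hz

end Rows


end Cfsg.Agent.H190.Odd
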