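import Cfsg.Agent.H190.Odd.Big8
import Cfsg.Agent.H190.Odd.CoreKill
import Cfsg.Agent.H190.Odd.Rad8
import Cfsg.Agent.H190.Odd.Idx8
import Cfsg.Agent.H190.Odd.Real
import Cfsg.Agent.H190.Odd.TwExact
import Cfsg.Agent.H563.KG.KF4
import Cfsg.Agent.H325.Same.ExcPair8
import Cfsg.Agent.H325.IsoFree
import Cfsg.Agent.H515.OddM.RowE7

/-!
# Subgroups of odd index of `E₆(q)`, `q` odd, of index prime to the classes 8, 12 (S4785)

* `K8_E6` : such a subgroup is the whole group;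
* `row_e6_of` : the row `E₆(q)`, `q` odd, of S4785.
-/

set_option autoImplicit false

namespace Cfsg.Agent.H190.Odd

open Cfsg Cfsg.Agent.OrdDiv Cfsg.Agent.H436 Cfsg.Agent.H902 Cfsg.Agent.H290.ElReg Cfsg.Agent.H290.ElTab
  Cfsg.Agent.H56.Exc Cfsg.Agent.H325.Loc Cfsg.Agent.H915.GN Cfsg.Agent.H264.FKS Cfsg.Agent.H325.Same Cfsg.Agent.H325.IsoExc
  Cfsg.Agent.H325.IsoFree Cfsg.Agent.H563.KG Cfsg.Agent.H453.OddM

universe u

theorem tbl_E6_8 : Tbl 78 .E6 [12, 8] 12 where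
  hn := by norm_num
  hb := bndR_78_12
  hs := svR_E6b
  hbS := bndS_12
  hsS := svS_E6b
  he₀ := c12
  hmem := by decide
  hle := fun _ => le_seven12

/-- the orders of the tori of `E₆(q)` of the classes 8, 12 -/
def M8E (q c : ℕ) : ℕ := if c = 12 then Ph 12 q * (q ^ 2 + q + 1) else Ph 8 q * (q ^ 2 - 1)

theorem odd_Ph12 {q : ℕ} (ho : Odd q) (hq : 1 ≤ q) : Odd (Ph 12 q) := by
  have h : ((Ph 12 q : ℕ) : ℤ) = _ := cast_Ph12 _ hq
  obtain ⟨k, rfl⟩ := ho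
  have h1 : ((Ph 12 (2 * k + 1) : ℕ) : ℤ) = 2 * (8 * k ^ 4 + 16 * k ^ 3 + 10 * k ^ 2 + 2 * k) + 1 := by
    rw [h]; push_cast; ring
  rw [← Nat.not_even_iff_odd, ← Int.even_coe_nat, h1]
  rintro ⟨m, hm⟩
  omega

theorem odd_gcd3' {n : ℕ} : Odd (Nat.gcd 3 n) := by
  rcases (Nat.dvd_prime Nat.prime_three).1 (Nat.gcd_dvd_left 3 n) with h | h <;> rw [h] <;> decide

/-- the arithmetic at the end -/
theorem not_eight {m : ℕ} (hm : Odd m) : ¬ 8 ∣ 12 * m := by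
  rintro ⟨k, hk⟩
  obtain ⟨j, rfl⟩ := hm
  omega

theorem index_mul {G : Type*} [Group G] (B : Subgroup G) (S : Subgroup B) :
    Nat.card G = B.index * (S.index * Nat.card S) := by
  rw [S.index_mul_card, B.index_mul_card]

theorem card_centralizer_sub {G : Type*} [Group G] (B : Subgroup G) (x : B) :
    Nat.card ↥(Subgroup.centralizer ({x} : Set ↥B)) ∣ Nat.card ↥(Subgroup.centralizer ({(x : G)} : Set G)) := by
  have h2 : (Subgroup.centralizer ({x} : Set ↥B)).map B.subtype ≤ Subgroup.centralizer ({(x : G)}) := by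
    rintro _ ⟨y, hy, rfl⟩
    rw [Subgroup.mem_centralizer_singleton_iff]
    exact congrArg Subtype.val (Subgroup.mem_centralizer_singleton_iff.1 hy)
  have h3 : Nat.card ↥((Subgroup.centralizer ({x} : Set ↥B)).map B.subtype) = Nat.card ↥(Subgroup.centralizer ({x} : Set ↥B)) :=
    Nat.card_congr ((Subgroup.centralizer ({x} : Set ↥B)).equivMapOfInjective _ B.subtype_injective).symm.toEquiv
  exact h3 ▸ Subgroup.card_dvd_of_le h2

/-- **`E₆(q)`, `q` odd.** A subgroup of odd index, divisible by no primitive prime divisor of `q^8 - 1` or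
`q^12 - 1`, is the whole group. -/
theorem K8_E6 (tb : OrderTable.{0}) (hcyc : CycFixSolv.{0}) (hcf : CF) {F : Type} [Field F] [Fintype F]
    (ho : ¬ 2 ∣ Fintype.card F)
    (B : Subgroup ↥(Lie.chevE6.group F)) (hoff : Off (Fintype.card F) [12, 8] B) (hodd : Odd B.index) : B = ⊤ := by
  obtain ⟨p, f, _, hp, hf, hq⟩ := exists_pf F
  have := Fact.mk hp
  have hfin : Finite ↥(Lie.chevE6.group F) := inferInstance
  have hT := named_e6 (F := F) tb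
  rw [hq] at hT hoff ho
  have hq2 : 2 ≤ p ^ f := hp.two_le.trans (Nat.le_self_pow (by omega) p)
  have hq3 : 3 ≤ p ^ f := by
    rcases eq_or_lt_of_le hq2 with h | h
    · exact absurd (h ▸ dvd_rfl) ho
    · exact h
  have hq1 : 1 ≤ p ^ f := by omega
  have hqo : Odd (p ^ f) := Cfsg.Agent.H515.OddM.odd_of_not ho
  have hOL : num (.e6 (p ^ f)) = OL .E6 (p ^ f) := rfl
  have hdT : Nat.card ↥(Lie.chevE6.group F) ∣ OL .E6 (p ^ f) := by
    rw [← hOL, ← hT.eq]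
    exact Dvd.intro_left _ rfl
  have hmem : ∀ c ∈ [12, 8], c = 12 ∨ c = 8 := by decide
  have hcl : ∀ c ∈ [12, 8], Cls c := by
    intro c hc
    have := hmem c hc
    unfold Cls
    omega
  have h7 : ∀ c ∈ [12, 8], 7 ≤ c := by decide
  have hnum : ∀ c ∈ [12, 8], ncl c (p ^ f) ∣ num (.e6 (p ^ f)) := by
    intro c hc
    have h1 : ∀ d ∈ [2, 5, 6, 8, 9, 12], (p ^ f) ^ d - 1 ∣ num (.e6 (p ^ f)) := by
      intro d hd
      show _ ∣ (p ^ f) ^ 36 * (((p ^ f) ^ 2 - 1) * ((p ^ f) ^ 5 - 1) * ((p ^ f) ^ 6 - 1) *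
        ((p ^ f) ^ 8 - 1) * ((p ^ f) ^ 9 - 1) * ((p ^ f) ^ 12 - 1))
      refine Dvd.dvd.mul_left ?_ _
      have h1 := List.dvd_prod (List.mem_map_of_mem (f := fun d => (p ^ f) ^ d - 1) hd)
      simp only [List.map_cons, List.map_nil, List.prod_cons, List.prod_nil, mul_one] at h1
      simp only [mul_assoc]
      exact h1
    refine (ncl_dvd_Ph c _).trans ((Ph_dvd (hcl c hc) hq1).trans (h1 c ?_))
    rcases hmem c hc with rfl | rfl <;> decide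
  have hnT : ∀ c ∈ [12, 8], ncl c (p ^ f) ∣ Nat.card ↥(Lie.chevE6.group F) := fun c hc =>
    ncl_dvd_card (hcl c hc) (h7 c hc) hq2 (den_pos hT.cond)
      ((Nat.gcd_le_left _ (by norm_num)).trans (by norm_num)) hT.eq (hnum c hc)
  have h12 : M8E (p ^ f) 12 = Ph 12 (p ^ f) * ((p ^ f) ^ 2 + p ^ f + 1) := rfl
  have h8 : M8E (p ^ f) 8 = Ph 8 (p ^ f) * ((p ^ f) ^ 2 - 1) := rfl
  have hm12 : ((Ph 12 (p ^ f) * ((p ^ f) ^ 2 + p ^ f + 1) : ℕ) : ℤ) =
      (1 - ((p ^ f : ℕ) : ℤ) ^ 2 + ((p ^ f : ℕ) : ℤ) ^ 4) * (1 + ((p ^ f : ℕ) : ℤ) + ((p ^ f : ℕ) : ℤ) ^ 2) := by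
    rw [Nat.cast_mul, cast_Ph12 _ hq1]; push_cast; ring
  have hm8 : ((Ph 8 (p ^ f) * ((p ^ f) ^ 2 - 1) : ℕ) : ℤ) =
      (1 + ((p ^ f : ℕ) : ℤ) ^ 4) * (((p ^ f : ℕ) : ℤ) ^ 2 - 1) := by
    rw [Nat.cast_mul, cast_Ph8, cast_sub_one hq1]; ring
  have hbig : ∀ c ∈ [12, 8], ∀ r, Prim (p ^ f) c r → Big ↥(Lie.chevE6.group F) r (M8E (p ^ f) c) c := by
    intro c hc r hr
    rcases hmem c hc with rfl | rfl
    · exact big_E6_12 hq hm12 hr
    · exact big_E6_8 hq hm8 hr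
  have hM : ∀ c ∈ [12, 8], M8E (p ^ f) c ∣ (p ^ f) ^ c - 1 := by
    intro c hc
    rcases hmem c hc with rfl | rfl
    · refine dvd_of_cast (c := (((p ^ f : ℕ) : ℤ) ^ 2 + 1) * (((p ^ f : ℕ) : ℤ) ^ 2 - 1) * (((p ^ f : ℕ) : ℤ) ^ 2 - (p ^ f : ℕ) + 1)) ?_
      rw [h12, cast_sub_one hq1, hm12]
      ring
    · refine dvd_of_cast (c := (((p ^ f : ℕ) : ℤ) ^ 2 + 1)) ?_
      rw [h8, cast_sub_one hq1, hm8]
      ring
  obtain ⟨r₀, hr₀⟩ := exists_prim hq2 (show 3 ≤ 12 by norm_num) (by norm_num)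
  have hpiso : PIso p r₀ ↥(Lie.chevE6.group F) := piso_E6_12 (F := F) (by rw [hq]; exact hr₀)
  have ho12 : Ord ↥(Lie.chevE6.group F) (p ^ f) 12 (Ph 12 (p ^ f) * ((p ^ f) ^ 2 + p ^ f + 1)) :=
    fun r hr x hx => (big_E6_12 hq hm12 hr).card x hx
  have ho8 : Ord ↥(Lie.chevE6.group F) (p ^ f) 8 (Ph 8 (p ^ f) * ((p ^ f) ^ 2 - 1)) :=
    fun r hr x hx => (big_E6_8 hq hm8 hr).card x hx
  have hdB : Nat.card ↥B ∣ OL .E6 (p ^ f) := (Subgroup.card_subgroup_dvd_card B).trans hdT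
  obtain ⟨S, hSn, hSs, hSna, hnS, hidx, hbS, g, hg, hch⟩ := core_kill tb hcyc hcf tbl_E6_8 (fam := [12, 8])
    (fun c hc => hc) (M := M8E (p ^ f)) (E := fun c => c)
    (e := 12) (e' := 8) (by decide) (by decide) (dist_12_8 hq2) hcl h7 hp hf (F := F) fth_E6 hdT
    hbig hM
    (fun c hc s hs hd => le_seven' hs (n := c) (by have := hmem c hc; omega) hd)
    (by decide) hnT (c₀ := 12) (by decide) hr₀ hpiso hoff (fun t ht htp htn htB => by
      refine good_e6b (by norm_num) hq3 ho (ho12.sub B) ?_ (ho8.sub B) ?_ hdB ?_ ?_ ht ?_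
        (htn 12 (by decide)) (htn 8 (by decide)) htB
      · intro h3 r hr x hx h
        exact (exact_e6_12 hq h3 hr (x := (x : ↥(Lie.chevE6.group F))) (by rw [Subgroup.orderOf_coe]; exact hx)).2
          (h.trans (card_centralizer_sub B x))
      · intro r hr x hx
        exact ((hbig 8 (by decide) r hr).subgroup B).cyc x hx
      · exact hoff.ncl_dvd (by decide) c12 hq1 (hnT 12 (by decide))
      · exact hoff.ncl_dvd (by decide) c8 hq1 (hnT 8 (by decide))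
      · intro h
        exact htp ((Nat.prime_dvd_prime_iff_eq ht hp).1 (ht.dvd_of_dvd_pow h)))
  have hdS : Nat.card S ∣ num (.e6 (p ^ f)) := IsNamed.card_dvd hT S
  have hM12 : Odd (M8E (p ^ f) 12) := by
    rw [h12]
    refine (odd_Ph12 hqo hq1).mul ?_
    have h1 : Odd ((p ^ f) ^ 2 + p ^ f + 1) := ((hqo.pow).add_odd hqo).add_one
    exact h1
  have hTeq : Nat.gcd 3 (p ^ f - 1) * Nat.card ↥(Lie.chevE6.group F) = (p ^ f) ^ 36 * (((p ^ f) ^ 2 - 1) * ((p ^ f) ^ 5 - 1) *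
      ((p ^ f) ^ 6 - 1) * ((p ^ f) ^ 8 - 1) * ((p ^ f) ^ 9 - 1) * ((p ^ f) ^ 12 - 1)) := hT.eq
  rcases charp_e6_812 hp hf hg.cond hch hg.eq hdS (fun s hs _ => (hbS 8 (by decide) s hs).2.2)
    (fun s hs _ => (hbS 12 (by decide) s hs).2.2) with rfl | rfl | rfl
  · exact eq_top_of_name hT hg
  · exfalso
    have h1 : S.index * 2 ∣ 12 * M8E (p ^ f) 12 := by
      refine index_two ((hbig 12 (by decide) r₀ hr₀).subgroup B) S (hbS 12 (by decide) r₀ hr₀).2.2 ?_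
        fun x hx => real_named_F4 hg hr₀ hx
      have := lt_of_prim hq2 (by norm_num) hr₀
      omega
    have h2 : 1 * Nat.card S = (p ^ f) ^ 24 * (((p ^ f) ^ 2 - 1) * ((p ^ f) ^ 6 - 1) * ((p ^ f) ^ 8 - 1) *
      ((p ^ f) ^ 12 - 1)) := hg.eq
    have h3 : 2 ^ 2 ∣ S.index := by
      refine kill_index (C := (p ^ f) ^ 12 * (((p ^ f) ^ 5 - 1) * ((p ^ f) ^ 9 - 1))) ?_ h2 (index_mul B S) Nat.card_pos
        (odd_gcd3' (n := p ^ f - 1)) hodd ?_
      · rw [hTeq]; ring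
      · rw [pow_two]
        exact (mul_dvd_mul (two_dvd_sub hqo) (two_dvd_sub hqo)).mul_left _
    exact not_eight hM12 ((mul_dvd_mul_right h3 2).trans h1)
  · exfalso
    have h1 : S.index ∣ 12 * M8E (p ^ f) 12 := hidx 12 (by decide)
    have hQ : p ^ (4 * f) = (p ^ f) ^ 4 := by rw [← pow_mul, mul_comm]
    have hQ2 : 2 ≤ (p ^ f) ^ 4 := hq2.trans (Nat.le_self_pow (by norm_num) _)
    rw [hQ] at hg
    have h2 := psl3_num hg hQ2
    have h3 : 2 ^ 3 ∣ S.index := by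
      refine kill_index (C := (p ^ f) ^ 24 * ((((p ^ f) ^ 2 - 1) * ((p ^ f) ^ 5 - 1) * ((p ^ f) ^ 6 - 1)) *
        ((p ^ f) ^ 9 - 1))) ?_ h2
        (index_mul B S) Nat.card_pos (odd_gcd3' (n := p ^ f - 1)) hodd ?_
      · rw [hTeq, ← pow_mul, ← pow_mul, ← pow_mul]; ring_nf
      · refine Dvd.dvd.mul_left (Dvd.dvd.mul_right ?_ _) _
        exact mul_dvd_mul (mul_dvd_mul (two_dvd_sub hqo) (two_dvd_sub hqo)) (two_dvd_sub hqo)
    exact not_eight hM12 (h3.trans h1)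

/-- **The row `E₆(q)`, `q` odd.** -/
theorem row_e6_of (tb : OrderTable.{0}) (hcyc : CycFixSolv.{0}) (hcf : CF) (q : ℕ) (hq : ¬ 2 ∣ q) :
    RowN.{u} (.e6 q) := by
  intro T _ _ _ h
  obtain ⟨F, _, _, hF, ⟨e⟩⟩ := h.real
  refine (Row.congr e.symm fun R hR => ?_).row8
  subst hF
  refine K8_E6 tb hcyc hcf hq R (fun c hc r hr => ?_) hR.cov.1
  have hc' : c = 12 ∨ c = 8 := by simpa using hc
  rcases hc' with rfl | rfl
  · exact off_e6_12 rfl hR.cov.2 hr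
  · exact off_e6_8 rfl hR.cov.2 hr

end Cfsg.Agent.H190.Odd
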