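import Cfsg.Agent.H129.StCover

/-!
# Twisted tori and the image of the finite group

`exists_not_mem_range` : a variant of `StCover.not_mem_range` for tori which are not cyclic.
-/

set_option autoImplicit false
set_option linter.unusedSectionVars false

namespace Cfsg.Agent.H190.Odd

open CoxeterSystem Cfsg Cfsg.Lie Cfsg.Lie.ChevalleyDatum
open Cfsg.Agent.ChevalleyStructure Cfsg.Agent.ChevalleyStructure.Elts Cfsg.Agent.ChevalleyStructure.CoxeterGeom
  Cfsg.Agent.ChevalleyStructure.CoxeterGeomTypes Cfsg.Agent.ChevalleyStructure.NPerm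
open Cfsg.Agent.Tits.Roots Cfsg.Agent.Tits.Core Cfsg.Agent.Nodes Cfsg.Agent.Nodes.Reps Cfsg.Agent.Nodes.BNOf
  Cfsg.Agent.Nodes.RGDChev
open Cfsg.Agent.KFacts.RgdChevCoord Cfsg.Agent.GpExc.Field Cfsg.Agent.H129.TorusUntw
open Cfsg.Agent.ChevalleyStructure.StBasic Cfsg.Agent.ChevalleyStructure.StTheta
open Cfsg.Agent.H129.StCover

universe u v

/-! ### the theorem -/

section Main

variable {D : ChevalleyDatum} {l : ℕ} {M : CoxeterMatrix (Fin l)} (hp : IsType D l M) {k : Type u} [Field k]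
  [IsAlgClosed k] {W : Type*} [Group W] (cs : CoxeterSystem M W) {p e : ℕ} [Fact p.Prime] [CharP k p]
  {Φ : (Fin D.rank → kˣ) →* D.SteinbergGroup k} (hΦ : IsPhi Φ)

include hp cs hΦ in
/-- **Some element of a twisted torus does not lie in the image of the finite group**, if the centre is not trivial and
is fixed by the Frobenius map. -/
theorem exists_not_mem_range {F : Type u} [Field F] [Fintype F] (f : F →+* k) (hq : Fintype.card F = p ^ e)
    {c : Fin D.rank → kˣ} (hc : ∀ s < D.nroots, ∏ i : Fin D.rank, c i ^ D.cartan i s = 1) (hc1 : c ≠ 1)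
    (hfix : ∀ b : Fin D.rank → kˣ, (∀ s < D.nroots, ∏ i : Fin D.rank, b i ^ D.cartan i s = 1) → ∀ i,
      b i ^ p ^ e = b i)
    {hN : NSys M (TT D k) (nc hp k)} {w : W} {n z : ↥(D.group k)} (hn : Rp cs hN w n)
    (hz : n = z⁻¹ * phi D k p e z) :
    ∃ s ∈ TT D k, n * phi D k p e s * n⁻¹ = s ∧ z * s * z⁻¹ ∉ (emb hp.inList f).range := by
  have hD := hp.inList
  have hq2 : 2 ≤ p ^ e := by rw [← hq]; exact Fintype.one_lt_card
  set φ : k →+* k := iterateFrobenius k p e with hφ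
  have hφf : φ.comp f = f := by
    ext a
    exact (frob_fix_iff f hq (f a)).2 ⟨a, rfl⟩
  -- the representative
  obtain ⟨ω, rfl⟩ := cs.wordProd_surjective w
  have hrp : Rp cs hN (cs.wordProd ω) (theta hD k (nW D k ω)) := by
    clear hn
    induction ω with
    | nil =>
      rw [wordProd_nil]
      have : theta hD k (nW D k ([] : List (Fin l))) = 1 := by simp [nW]
      rw [this]
      exact rp_one
    | cons i ω ih =>
      rw [wordProd_cons, nW_cons, map_mul, theta_stn_simple hp]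
      exact (rp_simple cs hN i).mul ih
  have ht0 : (theta hD k (nW D k ω))⁻¹ * n ∈ TT D k := hrp.unique hn
  obtain ⟨A, hA⟩ := exists_matrix hD hΦ (lt_rank hp) ω
  -- the solution
  obtain ⟨b, hb⟩ := exists_solution A hq2 c
  have hσb : stMap D φ (Φ b) = Φ (fun i => b i ^ p ^ e) := by
    rw [stMap_phi hΦ]
    refine congrArg Φ (funext fun i => Units.ext ?_)
    rw [Units.val_pow_eq_pow_val]
    exact iterateFrobenius_def _ _ _
  have hτ : nW D k ω * stMap D φ (Φ b) * (nW D k ω)⁻¹ = Φ b * Φ c := by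
    rw [hσb, hA, hb, map_mul]
  have hcc : Φ c ∈ Subgroup.center (D.SteinbergGroup k) := (hΦ.mem_iff c).2 hc
  have hθc : theta hD k (Φ c) = 1 := by
    rw [← MonoidHom.mem_ker, ker_theta hD]; exact hcc
  have hθσ : ∀ x : D.SteinbergGroup k, theta hD k (stMap D φ x) = phi D k p e (theta hD k x) := fun x => by
    rw [theta_stMap, phi_eq hp]
  -- the element `s`
  have hs : theta hD k (Φ b) ∈ TT D k := theta_phi_mem hD hΦ b
  have hσs : phi D k p e (theta hD k (Φ b)) ∈ TT D k := (( fr_phi hp cs).tor _).2 hs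
  have hns : n * phi D k p e (theta hD k (Φ b)) * n⁻¹ = theta hD k (Φ b) := by
    have h1 := congrArg (theta hD k) hτ
    rw [map_mul, map_mul, map_inv, map_mul, hθc, mul_one, hθσ] at h1
    have h2 : n = theta hD k (nW D k ω) * ((theta hD k (nW D k ω))⁻¹ * n) := by group
    have h3 := Cfsg.Agent.BpExc.TorChev.TT_comm hp _ ht0 _ hσs
    rw [h2]
    calc theta hD k (nW D k ω) * ((theta hD k (nW D k ω))⁻¹ * n) * phi D k p e (theta hD k (Φ b)) *
          (theta hD k (nW D k ω) * ((theta hD k (nW D k ω))⁻¹ * n))⁻¹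
        = theta hD k (nW D k ω) * ((((theta hD k (nW D k ω))⁻¹ * n) * phi D k p e (theta hD k (Φ b))) *
          ((theta hD k (nW D k ω))⁻¹ * n)⁻¹) * (theta hD k (nW D k ω))⁻¹ := by group
      _ = theta hD k (nW D k ω) * phi D k p e (theta hD k (Φ b)) * (theta hD k (nW D k ω))⁻¹ := by
        rw [h3]; group
      _ = _ := h1
  refine ⟨theta hD k (Φ b), hs, hns, fun hzs => ?_⟩
  obtain ⟨x, hx⟩ := hzs
  obtain ⟨x', rfl⟩ := theta_surjective hD x
  obtain ⟨z', rfl⟩ := theta_surjective hD z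
  set E := stMap D f x' with hE
  have hEfix : stMap D φ E = E := by rw [hE, stMap_comp, hφf]
  have hθE : theta hD k E = theta hD k (z' * Φ b * z'⁻¹) := by
    rw [hE, theta_stMap, hx, map_mul, map_mul, map_inv]
  have key : ∀ {x y : D.SteinbergGroup k}, theta hD k x = theta hD k y →
      ∃ κ ∈ Subgroup.center (D.SteinbergGroup k), y = x * κ := by
    intro x y hxy
    refine ⟨x⁻¹ * y, ?_, by group⟩
    rw [← ker_theta hD, MonoidHom.mem_ker, map_mul, map_inv, hxy, inv_mul_cancel]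
  obtain ⟨κ, hκ, h1⟩ := key hθE
  -- the Frobenius map is trivial on the centre
  have hcen : ∀ κ ∈ Subgroup.center (D.SteinbergGroup k), stMap D φ κ = κ := by
    intro κ hκ
    obtain ⟨a, rfl⟩ := hΦ.center_le hκ
    have h2 := hfix a ((hΦ.mem_iff a).1 hκ)
    rw [stMap_phi hΦ]
    refine congrArg Φ (funext fun i => Units.ext ?_)
    have h3 := congrArg Units.val (h2 i)
    rw [Units.val_pow_eq_pow_val] at h3
    exact (iterateFrobenius_def _ _ _).trans h3
  -- the lift of `z`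
  obtain ⟨a, ha⟩ := exists_theta_phi hΦ hp ht0
  have hθn : theta hD k (nW D k ω * Φ a) = theta hD k (z'⁻¹ * stMap D φ z') := by
    rw [map_mul, ha, map_mul, map_inv, hθσ, ← hz]
    group
  obtain ⟨κ', hκ', h2⟩ := key hθn
  have h3 : stMap D φ z' = z' * (nW D k ω * Φ a * κ') := by rw [← h2]; group
  have hκc : ∀ x : D.SteinbergGroup k, κ' * x * κ'⁻¹ = x := fun x => by
    rw [← Subgroup.mem_center_iff.1 hκ' x, mul_inv_cancel_right]
  have h4 : stMap D φ (z' * Φ b * z'⁻¹) = z' * (Φ b * Φ c) * z'⁻¹ := by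
    rw [map_mul, map_mul, map_inv, h3, ← hτ]
    have h5 : Φ a * stMap D φ (Φ b) * (Φ a)⁻¹ = stMap D φ (Φ b) := by
      rw [hσb, ← map_mul, ← map_inv, ← map_mul]
      congr 1
      exact mul_inv_cancel_comm _ _
    calc z' * (nW D k ω * Φ a * κ') * stMap D φ (Φ b) * (z' * (nW D k ω * Φ a * κ'))⁻¹
        = z' * (nW D k ω * (Φ a * (κ' * stMap D φ (Φ b) * κ'⁻¹) * (Φ a)⁻¹) * (nW D k ω)⁻¹) * z'⁻¹ := by group
      _ = z' * (nW D k ω * stMap D φ (Φ b) * (nW D k ω)⁻¹) * z'⁻¹ := by rw [hκc, h5]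
  rw [h1, map_mul, hEfix, hcen κ hκ, ← h1] at h4
  have h5 : Φ c = 1 := by
    have h6 : z' * Φ b * z'⁻¹ = z' * Φ b * Φ c * z'⁻¹ := by rw [h4]; group
    have h7 := mul_right_cancel h6
    exact (mul_eq_left.1 h7.symm)
  exact hc1 (hΦ.inj (by rw [h5, map_one]))

end Main

end Cfsg.Agent.H190.Odd
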